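import Groth.Agent.HilbStrat.Main
import Mathlib.AlgebraicGeometry.Limits

/-!
# Flatness and the disjoint union of the Hilbert polynomial strata
-/

set_option autoImplicit false
set_option linter.style.haveILetI false
set_option linter.unusedSectionVars false
set_option backward.isDefEq.respectTransparency false
set_option backward.isDefEq.respectTransparency.types false
set_option maxHeartbeats 1000000
set_option synthInstance.maxHeartbeats 400000

universe w u

open CategoryTheory CategoryTheory.Limits AlgebraicGeometry TopologicalSpace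

noncomputable section

namespace Groth.Agent.HilbStrat

open Groth.Agent

variable {X S : Scheme.{u}} {f : X ⟶ S} {F L : X.Modules}

/-- Flatness of the pullback is local on the base. -/
theorem isFlatOver_of_locally {T : Scheme.{u}} {g : T ⟶ S}
    (h : ∀ t : T, ∃ (T' : Scheme.{u}) (j : T' ⟶ T), IsOpenImmersion j ∧ t ∈ Set.range j.base ∧
      FlatMod.IsFlatOver (pullback.snd f (j ≫ g)) ((Scheme.Modules.pullback (pullback.fst f (j ≫ g))).obj F)) :
    FlatMod.IsFlatOver (pullback.snd f g) ((Scheme.Modules.pullback (pullback.fst f g)).obj F) := fun x => by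
  obtain ⟨T', j, hj, ⟨t', ht'⟩, hgood⟩ := h (pullback.snd f g x)
  have sq := IsPullback.of_hasPullback f g
  have sq' := IsPullback.of_hasPullback (pullback.snd f g) j
  have hfl := (isFlatOver_iff_of_isPullback (sq'.paste_horiz sq) F).2 hgood
  obtain ⟨z, hz, -⟩ := Scheme.Pullback.exists_preimage_pullback x t' ht'.symm
  have h1 := (FibFlatMod.flatAt_openImmersion (f := pullback.snd f g) (f' := pullback.snd (pullback.snd f g) j)
    (jX := pullback.fst (pullback.snd f g) j) (jY := j) sq'.w.symm
    ((Scheme.Modules.pullback (pullback.fst f g)).obj F) z).1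
    (GrFlat5.isFlatOverAt_of_iso _ ((Scheme.Modules.pullbackComp _ _).app F).symm z (hfl z))
  rwa [hz] at h1

/-- Flatness of the pullback is stable under composition. -/
theorem isFlatOver_comp {T T' : Scheme.{u}} {g : T ⟶ S}
    (hg : FlatMod.IsFlatOver (pullback.snd f g) ((Scheme.Modules.pullback (pullback.fst f g)).obj F))
    (h : T' ⟶ T) :
    FlatMod.IsFlatOver (pullback.snd f (h ≫ g)) ((Scheme.Modules.pullback (pullback.fst f (h ≫ g))).obj F) := by
  have sq' := IsPullback.of_hasPullback (pullback.snd f g) h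
  exact (isFlatOver_iff_of_isPullback (sq'.paste_horiz (IsPullback.of_hasPullback f g)) F).1 fun x =>
    FibFlatMod.isFlatOverAt_bc sq' (pullback.fst f g) _ rfl F x (hg _)

/-- The polynomial of a point of the base. -/
theorem exists_mem_stratum [IsProper f] (hL : PicF.IsInvertible L) (hF : CohB1.IsFP F) (s : S) :
    ∃ P : Polynomial ℚ, s ∈ stratum f F L P :=
  exists_poly_eulerChar f hL hF s

/-- A point has one polynomial only. -/
theorem eq_of_mem_stratum {P Q : Polynomial ℚ} {s : S} (hP : s ∈ stratum f F L P) (hQ : s ∈ stratum f F L Q) :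
    P = Q :=
  eq_of_eventually_eval_eq 0 fun n _ => (hP n).symm.trans (hQ n)

/-- Finitely many polynomials occur over a quasi-compact base. -/
theorem exists_finset_stratum [CompactSpace S] [IsProper f] [LocallyOfFinitePresentation f]
    (hL : PicF.IsInvertible L) (hF : CohB1.IsFP F) :
    ∃ I : Finset (Polynomial ℚ), ∀ s : S, ∃ P ∈ I, s ∈ stratum f F L P := by
  classical
  choose Q hQ using exists_mem_stratum (f := f) hL hF
  have hfin : (Set.range Q).Finite := by
    refine Set.Finite.of_injOn (f := fun (P : Polynomial ℚ) (n : ℕ) => P.eval (n : ℚ))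
      (t := (fun (E : ℕ → ℤ) (n : ℕ) => (E n : ℚ)) '' Set.range fun s : S => fun n : ℕ =>
        PerfAux.eulerChar f (CohB1.tensorMod F (CohB1.tensorPow L n)) s) ?_ ?_
      ((HilbSnap.finite_range_eulerChar_twists f hL F hF).image _)
    · rintro _ ⟨s, rfl⟩
      exact ⟨_, ⟨s, rfl⟩, funext fun n => hQ s n⟩
    · exact fun P _ P' _ h => eq_of_eventually_eval_eq 0 fun n _ => congrFun h n
  exact ⟨hfin.toFinset, fun s => ⟨Q s, hfin.mem_toFinset.2 ⟨s, rfl⟩, hQ s⟩⟩

/-- The strata through their disjoint union detect flatness over locally Noetherian schemes. -/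
theorem flat_iff_exists_sigma [IsProper f] [LocallyOfFinitePresentation f]
    (hL : PicF.IsInvertible L) (hF : CohB1.IsFP F)
    {ι : Type w} [Finite ι] [Small.{u} ι] (P : ι → Polynomial ℚ) (hP : Function.Injective P)
    (hcov : ∀ s, ∃ i, s ∈ stratum f F L (P i)) (St : ι → Scheme.{u}) (e : ∀ i, St i ⟶ S)
    (he : ∀ i (T : Scheme.{u}) (g : T ⟶ S), (∃ h : T ⟶ St i, h ≫ e i = g) ↔ Good f F L (P i) g)
    (T : Scheme.{u}) (φ : T ⟶ S) :
    FlatMod.IsFlatOver (pullback.snd f φ) ((Scheme.Modules.pullback (pullback.fst f φ)).obj F) ↔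
      ∃ g : T ⟶ ∐ St, g ≫ Limits.Sigma.desc e = φ := by
  classical
  constructor
  · intro hfl
    have sq := IsPullback.of_hasPullback f φ
    let E : ℕ → T → ℤ := fun n t => PerfAux.eulerChar f (CohB1.tensorMod F (CohB1.tensorPow L n)) (φ t)
    have hlc : ∀ n, IsLocallyConstant (E n) := fun n => by
      have hG := HilbSnap.isFP_tensor_invertible hF (H23.PicMul.isInvertible_tensorPow hL n)
      have h1 := PBC.isLocallyConstant_eulerChar (pullback.snd f φ)
        ((Scheme.Modules.pullback (pullback.fst f φ)).obj (CohB1.tensorMod F (CohB1.tensorPow L n)))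
        (ModStLib.isFP_pullback _ hG) (fun x => by
          obtain ⟨a⟩ := H23.PicMul.pull (pullback.fst f φ) F (CohB1.tensorPow L n)
          exact GrFlat5.isFlatOverAt_of_iso _ a.symm x (TwistFlat.isFlatOver_tensor _
            (PicClLib.isInvertible_pullback _ (H23.PicMul.isInvertible_tensorPow hL n)) hfl x))
      have h2 : E n = fun t => PerfAux.eulerChar (pullback.snd f φ)
          ((Scheme.Modules.pullback (pullback.fst f φ)).obj (CohB1.tensorMod F (CohB1.tensorPow L n))) t :=
        funext fun t => (HilbSnap.eulerChar_bc sq (QCoh.isQCoh_of_isFP hG) t).symm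
      rw [h2]
      exact h1
    let U : ι → T.Opens := fun i => ⟨{t | φ t ∈ stratum f F L (P i)}, by
      have hd : ∀ j : {j : ι // j ≠ i}, ∃ m : ℕ, (P j).eval (m : ℚ) ≠ (P i).eval (m : ℚ) := fun j => by
        by_contra hc
        push Not at hc
        exact j.2 (hP (eq_of_eventually_eval_eq 0 fun m _ => hc m))
      choose m hm using hd
      have hset : {t | φ t ∈ stratum f F L (P i)} =
          ⋂ j : {j : ι // j ≠ i}, {t | (E (m j) t : ℚ) = (P i).eval (m j : ℚ)} := by
        ext t
        refine ⟨fun h => Set.mem_iInter.2 fun j => h (m j), fun h => ?_⟩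
        obtain ⟨k, hk⟩ := hcov (φ t)
        by_cases hki : k = i
        · rwa [hki] at hk
        · exact absurd ((hk (m ⟨k, hki⟩)).symm.trans (Set.mem_iInter.1 h ⟨k, hki⟩)) (hm ⟨k, hki⟩)
      rw [hset]
      exact isOpen_iInter_of_finite fun j => (hlc (m j)) {z : ℤ | (z : ℚ) = (P i).eval (m j : ℚ)}⟩
    have hfac : ∀ i, ∃ h : (U i : Scheme.{u}) ⟶ St i, h ≫ e i = (U i).ι ≫ φ := fun i =>
      (he i _ _).2 ⟨isFlatOver_comp hfl (U i).ι, fun t n => t.2 n⟩
    choose h hh using hfac
    obtain ⟨hcol⟩ := nonempty_isColimit_cofanMk_of (fun i => (U i).ι) (by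
      refine top_le_iff.1 fun t _ => ?_
      obtain ⟨i, hi⟩ := hcov (φ t)
      exact Opens.mem_iSup.2 ⟨i, ⟨⟨t, hi⟩, rfl⟩⟩) (fun i j hij => by
      rw [Function.onFun, disjoint_iff, ← le_bot_iff]
      rintro t ⟨⟨a, ha⟩, ⟨b, hb⟩⟩
      refine (hij (hP (eq_of_mem_stratum (f := f) (F := F) (L := L) (s := φ t) ?_ ?_))).elim
      · rw [← ha]; exact a.2
      · rw [← hb]; exact b.2)
    refine ⟨Cofan.IsColimit.desc hcol fun i => h i ≫ Limits.Sigma.ι St i, ?_⟩
    refine Cofan.IsColimit.hom_ext hcol _ _ fun i => ?_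
    rw [← Category.assoc, Cofan.IsColimit.fac, Category.assoc, Limits.Sigma.ι_desc, hh]
    rfl
  · rintro ⟨g, rfl⟩
    refine isFlatOver_of_locally fun t => ?_
    obtain ⟨i, z, hz⟩ := (sigmaOpenCover St).exists_eq (g t)
    have hι : (sigmaOpenCover St).f i = Limits.Sigma.ι St i := rfl
    refine ⟨_, (g ⁻¹ᵁ (Limits.Sigma.ι St i).opensRange).ι, inferInstance, ?_, ?_⟩
    · rw [Scheme.Opens.range_ι]
      exact ⟨z, hι ▸ hz⟩
    · let j := (g ⁻¹ᵁ (Limits.Sigma.ι St i).opensRange).ι
      have hr : Set.range (j ≫ g) ⊆ Set.range (Limits.Sigma.ι St i) := by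
        rintro _ ⟨x, rfl⟩
        exact x.2
      let k := IsOpenImmersion.lift (Limits.Sigma.ι St i) (j ≫ g) hr
      have hk : k ≫ Limits.Sigma.ι St i = j ≫ g := IsOpenImmersion.lift_fac _ _ hr
      have hgood := (he i _ (j ≫ g ≫ Limits.Sigma.desc e)).1
        ⟨k, by rw [← Category.assoc, ← hk, Category.assoc, Limits.Sigma.ι_desc]⟩
      exact hgood.1

end Groth.Agent.HilbStrat

end
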