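import Groth.Agent.HilbStrat.Sigma
import Groth.Agent.TwistFlat.Base
import Groth.Agent.PicGlue.ProjSpaceBC
import Groth.Agent.Nakai.KleimanDeg
import Groth.Agent.AlgStLib.Noetherian
import Groth.Agent.S10829

/-!
# The flattening stratification on projective space over a Noetherian scheme
-/

set_option autoImplicit false
set_option linter.style.haveILetI false
set_option linter.unusedSectionVars false
set_option backward.isDefEq.respectTransparency false
set_option backward.isDefEq.respectTransparency.types false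
set_option maxHeartbeats 1000000
set_option synthInstance.maxHeartbeats 400000

universe u

open CategoryTheory CategoryTheory.Limits AlgebraicGeometry TopologicalSpace
open Groth.Agent.H23.PicMul

noncomputable section

namespace Groth.Agent.HilbStrat.ProjSpace

open Groth.Agent

variable {n : ℕ} {S : Scheme.{u}}

theorem lfp_toBase : LocallyOfFinitePresentation (CohB1.ProjSpaceOver.toBase n S) := by
  haveI : IsProper (CohB1.ProjSpace.toSpec n (ULift.{u} ℤ)) := PnCoh.Chow.isProper_toSpec n _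
  haveI : IsNoetherianRing (ULift.{u} ℤ) := isNoetherianRing_of_ringEquiv ℤ ULift.ringEquiv.symm
  haveI : LocallyOfFinitePresentation (CohB1.ProjSpace.toSpec n (ULift.{u} ℤ)) :=
    AlgStLib.locallyOfFinitePresentation_of_isLocallyNoetherian _ inferInstance
  exact MorphismProperty.pullback_snd _ _ ‹_›

theorem isInvertible_twistOver (m : ℤ) : PicF.IsInvertible (Twist.twistOver n S m) :=
  PicClLib.isInvertible_pullback _ (TwistFlat.isInvertible_twistProjSpace n m)

/-- `O(a + b) = O(a) ⊗ O(b)`. -/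
theorem cl_twistOver_add (a b : ℤ) :
    PicF.cl (Twist.twistOver n S (a + b)) = PicF.cl (Twist.twistOver n S a) * PicF.cl (Twist.twistOver n S b) := by
  let g := pullback.fst (CohB1.ProjSpace.toSpec n (ULift.{u} ℤ)) (specULiftZIsTerminal.from S)
  show PicF.pullCl g (PicF.cl (Twist.twistProjSpace n (ULift.{u} ℤ) (a + b))) =
    PicF.pullCl g (PicF.cl (Twist.twistProjSpace n (ULift.{u} ℤ) a)) *
      PicF.pullCl g (PicF.cl (Twist.twistProjSpace n (ULift.{u} ℤ) b))
  rw [← pullCl_mul, ← cl_tensor]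
  exact congrArg (PicF.pullCl g) (cl_eq_iff.2 ⟨(PnCoh.Finite.twist_tensor_iso (𝒜 := CohB1.polyGrading n (ULift.{u} ℤ))
    (g := fun j : Fin (n + 1) => (MvPolynomial.X j : MvPolynomial (Fin (n + 1)) (ULift.{u} ℤ)))
    (fun j => ProjPt.X_mem j) (top_le_iff.1 fun y _ => Opens.mem_iSup.2 (ProjUPX.cov_X y)) a b).some.symm⟩)

/-- `O(k)` is the `k`-th power of `O(1)`. -/
theorem cl_twistOver_natCast (k : ℕ) :
    PicF.cl (Twist.twistOver n S (k : ℤ)) = PicF.cl (CohB1.tensorPow (Twist.twistOver n S 1) k) := by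
  rw [cl_tensorPow]
  let g := pullback.fst (CohB1.ProjSpace.toSpec n (ULift.{u} ℤ)) (specULiftZIsTerminal.from S)
  show PicF.pullCl g (PicF.cl (Twist.twistProjSpace n (ULift.{u} ℤ) (k : ℤ))) =
    PicF.pullCl g (PicF.cl (Twist.twistProjSpace n (ULift.{u} ℤ) 1)) ^ k
  rw [← pullCl_pow, ← cl_tensorPow]
  exact congrArg (PicF.pullCl g) (cl_eq_iff.2
    (PnCoh.Finite.twist_tensorPow_iso (𝒜 := CohB1.polyGrading n (ULift.{u} ℤ))
      (g := fun j : Fin (n + 1) => (MvPolynomial.X j : MvPolynomial (Fin (n + 1)) (ULift.{u} ℤ)))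
      (fun j => ProjPt.X_mem j) (top_le_iff.1 fun y _ => Opens.mem_iSup.2 (ProjUPX.cov_X y)) k))

theorem isPullback_projMap {T : Scheme.{u}} (φ : T ⟶ S) :
    IsPullback (FGA.projMap n φ) (CohB1.ProjSpaceOver.toBase n T) (CohB1.ProjSpaceOver.toBase n S) φ := by
  refine IsPullback.of_right ?_ ?_ (IsPullback.of_hasPullback (CohB1.ProjSpace.toSpec n (ULift.{u} ℤ))
    (specULiftZIsTerminal.from S))
  · have h1 : FGA.projMap n φ ≫ pullback.fst (CohB1.ProjSpace.toSpec n (ULift.{u} ℤ)) (specULiftZIsTerminal.from S) =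
        pullback.fst (CohB1.ProjSpace.toSpec n (ULift.{u} ℤ)) (specULiftZIsTerminal.from T) :=
      (pullback.lift_fst _ _ _).trans (Category.comp_id _)
    rw [h1, specULiftZIsTerminal.hom_ext (φ ≫ specULiftZIsTerminal.from S) (specULiftZIsTerminal.from T)]
    exact IsPullback.of_hasPullback _ _
  · exact pullback.lift_snd _ _ _

theorem flat_iff (F : (CohB1.ProjSpaceOver n S).Modules) {T : Scheme.{u}} (φ : T ⟶ S) :
    FlatMod.IsFlatOver (CohB1.ProjSpaceOver.toBase n T) ((Scheme.Modules.pullback (FGA.projMap n φ)).obj F) ↔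
      FlatMod.IsFlatOver (pullback.snd (CohB1.ProjSpaceOver.toBase n S) φ)
        ((Scheme.Modules.pullback (pullback.fst (CohB1.ProjSpaceOver.toBase n S) φ)).obj F) :=
  isFlatOver_iff_of_isPullback (isPullback_projMap φ) F

/-- The fibres have dimension at most `n`. -/
theorem dim_le {K : Type u} [Field K] {P : Scheme.{u}} {a : P ⟶ CohB1.ProjSpaceOver n S}
    {b : P ⟶ Spec (CommRingCat.of K)} {g : Spec (CommRingCat.of K) ⟶ S}
    (h : IsPullback a b (CohB1.ProjSpaceOver.toBase n S) g) :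
    topologicalKrullDim P ≤ (n : WithBot ℕ∞) := by
  obtain ⟨e, -⟩ := PicGlue.exists_projSpace_iso n K
  let j : P ≅ CohB1.ProjSpace n K := h.isoIsPullback _ _ (isPullback_projMap g) ≪≫ e.symm
  rw [IsHomeomorph.topologicalKrullDim_eq j.hom j.schemeIsoToHomeo.isHomeomorph, S10829.result K n]

/-- The Hilbert polynomial computes all twists. -/
theorem eval_of_mem_stratum {F : (CohB1.ProjSpaceOver n S).Modules} (hF : CohB1.IsFP F) {P : Polynomial ℚ} {s : S}
    (hs : s ∈ stratum (CohB1.ProjSpaceOver.toBase n S) F (Twist.twistOver n S 1) P) (m : ℤ) :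
    (PerfAux.eulerChar (CohB1.ProjSpaceOver.toBase n S) (CohB1.tensorMod F (Twist.twistOver n S m)) s : ℚ) =
      P.eval (m : ℚ) := by
  haveI := TwistFlat.isProper_toBase n (Y := S)
  obtain ⟨M, hM⟩ : ∃ M : ℕ, 0 ≤ m + M := ⟨(-m).toNat, by omega⟩
  let F' := CohB1.tensorMod F (Twist.twistOver n S (-(M : ℤ)))
  have hF' : CohB1.IsFP F' := HilbSnap.isFP_tensor_invertible hF (isInvertible_twistOver _)
  obtain ⟨Q, hQ⟩ := exists_poly_eulerChar (CohB1.ProjSpaceOver.toBase n S) (isInvertible_twistOver (S := S) 1) hF' s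
  have hcl : ∀ k : ℕ, PerfAux.eulerChar (CohB1.ProjSpaceOver.toBase n S)
      (CohB1.tensorMod F' (CohB1.tensorPow (Twist.twistOver n S 1) k)) s =
      PerfAux.eulerChar (CohB1.ProjSpaceOver.toBase n S) (CohB1.tensorMod F (Twist.twistOver n S ((k : ℤ) - M))) s := by
    intro k
    refine HilbSnap.eulerChar_congr _ (cl_eq_iff.1 ?_).some s
    rw [cl_tensor, cl_tensor, cl_tensor, ← cl_twistOver_natCast, mul_assoc, ← cl_twistOver_add,
      show -(M : ℤ) + k = k - M by ring]
  have hQP : Q = P.comp (Polynomial.X - Polynomial.C (M : ℚ)) := eq_of_eventually_eval_eq M fun k hk => by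
    have hq : ((k - M : ℕ) : ℚ) = (k : ℚ) - (M : ℚ) := Nat.cast_sub hk
    rw [← hQ k, hcl k, Polynomial.eval_comp, Polynomial.eval_sub, Polynomial.eval_X, Polynomial.eval_C,
      ← hq, ← hs (k - M)]
    refine congrArg (fun z : ℤ => (z : ℚ)) (HilbSnap.eulerChar_congr _ (cl_eq_iff.1 ?_).some s)
    rw [cl_tensor, cl_tensor, ← cl_twistOver_natCast, Nat.cast_sub hk]
  have h := hQ (m + M).toNat
  rw [hcl, hQP, Polynomial.eval_comp, Polynomial.eval_sub, Polynomial.eval_X, Polynomial.eval_C] at h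
  rw [Int.toNat_of_nonneg hM, add_sub_cancel_right] at h
  have hc : (((m + M).toNat : ℕ) : ℚ) = (m : ℚ) + (M : ℚ) := by
    have hc' : (((m + M).toNat : ℕ) : ℤ) = m + M := Int.toNat_of_nonneg hM
    exact_mod_cast hc'
  rwa [hc, add_sub_cancel_right] at h

/-- The strata of all Hilbert polynomials. -/
theorem exists_strata [IsNoetherian S] (F : (CohB1.ProjSpaceOver n S).Modules) (hF : Coh.IsCoh F) :
    ∃ (I : Finset (Polynomial ℚ)) (St : ↥I → Scheme.{u}) (e : ∀ P : ↥I, St P ⟶ S),
      (∀ P, IsImmersion (e P)) ∧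
      (∀ P : ↥I, Set.range (e P) =
        stratum (CohB1.ProjSpaceOver.toBase n S) F (Twist.twistOver n S 1) (P : Polynomial ℚ)) ∧
      (∀ s : S, ∃ P : ↥I, s ∈ stratum (CohB1.ProjSpaceOver.toBase n S) F (Twist.twistOver n S 1) (P : Polynomial ℚ)) ∧
      (∀ (T : Scheme.{u}) [IsLocallyNoetherian T] (φ : T ⟶ S),
        FlatMod.IsFlatOver (CohB1.ProjSpaceOver.toBase n T) ((Scheme.Modules.pullback (FGA.projMap n φ)).obj F) ↔
          ∃ g : T ⟶ ∐ St, g ≫ Limits.Sigma.desc e = φ) := by
  haveI := TwistFlat.isProper_toBase n (Y := S)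
  haveI := lfp_toBase (n := n) (S := S)
  haveI : IsLocallyNoetherian (CohB1.ProjSpaceOver n S) :=
    LocallyOfFiniteType.isLocallyNoetherian (CohB1.ProjSpaceOver.toBase n S)
  have hF' : CohB1.IsFP F := QCoh.isCoh_iff_isFP.1 hF
  have hL := isInvertible_twistOver (n := n) (S := S) 1
  obtain ⟨I, hI⟩ := exists_finset_stratum (f := CohB1.ProjSpaceOver.toBase n S) hL hF'
  choose St e he _ _ hrange huniv using fun P : ↥I =>
    exists_stratum (CohB1.ProjSpaceOver.toBase n S) (TwistFlat.isRelAmple_twistOver n) hF' (P : Polynomial ℚ)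
  have hcov : ∀ s : S, ∃ P : ↥I,
      s ∈ stratum (CohB1.ProjSpaceOver.toBase n S) F (Twist.twistOver n S 1) (P : Polynomial ℚ) := fun s => by
    obtain ⟨P, hP, hs⟩ := hI s
    exact ⟨⟨P, hP⟩, hs⟩
  refine ⟨I, St, e, he, hrange, hcov, fun T _ φ => ?_⟩
  rw [flat_iff]
  exact flat_iff_exists_sigma hL hF' (fun P : ↥I => (P : Polynomial ℚ)) Subtype.val_injective hcov St e huniv T φ

/-- The Euler characteristic in degrees at most `n` of a fibre of the family over the identity. -/
theorem eulerCharLE_fibreAt {F : (CohB1.ProjSpaceOver n S).Modules} (hF : Coh.IsQCoh F) (m : ℤ)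
    (s : (Over.mk (𝟙 S)).left) :
    FGA.eulerCharLE ((Over.mk (𝟙 S)).left.residueField s)
        (FGA.fibreAt (CohB1.ProjSpaceOver.toBase n S) (Over.mk (𝟙 S)) s).left
        (CohB1.tensorMod (FGA.restrFibre (CohB1.ProjSpaceOver.toBase n S) (Over.mk (𝟙 S)) s
            (FGA.ET (CohB1.ProjSpaceOver.toBase n S) F (Over.mk (𝟙 S))))
          (FGA.restrFibre (CohB1.ProjSpaceOver.toBase n S) (Over.mk (𝟙 S)) s
            (FGA.ET (CohB1.ProjSpaceOver.toBase n S) (Twist.twistOver n S m) (Over.mk (𝟙 S))))) n =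
      PerfAux.eulerChar (CohB1.ProjSpaceOver.toBase n S) (CohB1.tensorMod F (Twist.twistOver n S m)) s := by
  let π := CohB1.ProjSpaceOver.toBase n S
  haveI := TwistFlat.isProper_toBase n (Y := S)
  let T : Over S := Over.mk (𝟙 S)
  let q : PicF.XT π T ⟶ CohB1.ProjSpaceOver n S := pullback.fst π T.hom
  let p := PicF.XTproj π T
  haveI : IsProper p := inferInstanceAs (IsProper (pullback.snd π T.hom))
  have sq : IsPullback q p π T.hom := IsPullback.of_hasPullback _ _
  let G := CohB1.tensorMod F (Twist.twistOver n S m)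
  have hG : Coh.IsQCoh G :=
    KFlatLib.isQCoh_tensor hF (ProjUPX.isQCoh_of_isInvertible (isInvertible_twistOver m))
  have hG' : Coh.IsQCoh ((Scheme.Modules.pullback (p.fiberι s)).obj ((Scheme.Modules.pullback q).obj G)) :=
    QCoh.isQCoh_pullback _ (QCoh.isQCoh_pullback _ hG)
  obtain ⟨a⟩ := H23.PicMul.pull q F (Twist.twistOver n S m)
  obtain ⟨b⟩ := H23.PicMul.pull (p.fiberι s) ((Scheme.Modules.pullback q).obj F)
    ((Scheme.Modules.pullback q).obj (Twist.twistOver n S m))
  let e := (Scheme.Modules.pullback (p.fiberι s)).mapIso a ≪≫ b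
  letI : (p.fiber s).Over (Spec (CommRingCat.of (T.left.residueField s : Type u))) := ⟨p.fiberToSpecResidueField s⟩
  haveI : IsProper ((p.fiber s) ↘ Spec (CommRingCat.of (T.left.residueField s : Type u))) :=
    inferInstanceAs (IsProper (pullback.snd p (T.left.fromSpecResidueField s)))
  have hd : topologicalKrullDim (p.fiber s) ≤ (n : WithBot ℕ∞) :=
    dim_le (K := (T.left.residueField s : Type u))
      ((IsPullback.of_hasPullback p (T.left.fromSpecResidueField s)).paste_horiz sq)
  have h1 := Nakai.eulerCharLE_eq_euler (T.left.residueField s : Type u) (Y := p.fiber s) hd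
    ((QCoh.isQCoh_iff_iso e).1 hG')
  refine h1.trans ?_
  rw [← CurveCohLib.euler_congr (k := (T.left.residueField s : Type u)) e]
  show PerfAux.eulerChar p ((Scheme.Modules.pullback q).obj G) s = _
  rw [HilbSnap.eulerChar_bc sq hG s]
  rfl

end Groth.Agent.HilbStrat.ProjSpace

end
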