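import Groth.Agent.HilbSnap.GeClosed
import Groth.Agent.FibFlatMod.StageGlobal
import Groth.Agent.FibFlatMod.CritMain

/-!
# The condition of having a flat pullback with the given Hilbert polynomial
-/

set_option autoImplicit false
set_option linter.style.haveILetI false
set_option linter.unusedSectionVars false
set_option backward.isDefEq.respectTransparency false
set_option backward.isDefEq.respectTransparency.types false
set_option maxHeartbeats 1000000

universe u

open CategoryTheory CategoryTheory.Limits AlgebraicGeometry TopologicalSpace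

noncomputable section

namespace Groth.Agent.HilbStrat

open Groth.Agent

variable {X S : Scheme.{u}}

/-- The pullback of `F` to `T` is flat with Hilbert polynomial `Φ` on all fibres. -/
def Good (f : X ⟶ S) (F L : X.Modules) (Φ : Polynomial ℚ) {T : Scheme.{u}} (g : T ⟶ S) : Prop :=
  FlatMod.IsFlatOver (pullback.snd f g) ((Scheme.Modules.pullback (pullback.fst f g)).obj F) ∧
    ∀ (t : T) (n : ℕ),
      (PerfAux.eulerChar f (CohB1.tensorMod F (CohB1.tensorPow L n)) (g t) : ℚ) = Φ.eval (n : ℚ)

/-- Flatness of the pullback may be checked on any cartesian square. -/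
theorem isFlatOver_iff_of_isPullback {P T : Scheme.{u}} {f : X ⟶ S} {g : T ⟶ S} {a : P ⟶ X} {b : P ⟶ T}
    (h : IsPullback a b f g) (F : X.Modules) :
    FlatMod.IsFlatOver b ((Scheme.Modules.pullback a).obj F) ↔
      FlatMod.IsFlatOver (pullback.snd f g) ((Scheme.Modules.pullback (pullback.fst f g)).obj F) := by
  constructor
  · intro hb x
    have hc : IsPullback h.isoPullback.inv (pullback.snd f g) b (𝟙 T) :=
      IsPullback.of_horiz_isIso ⟨by simp⟩
    exact FibFlatMod.isFlatOverAt_bc hc a _ h.isoPullback_inv_fst F x (hb _)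
  · intro hb x
    have hc : IsPullback h.isoPullback.hom b (pullback.snd f g) (𝟙 T) :=
      IsPullback.of_horiz_isIso ⟨by simp⟩
    exact FibFlatMod.isFlatOverAt_bc hc (pullback.fst f g) _ h.isoPullback_hom_fst F x (hb _)

variable {f : X ⟶ S} {F L : X.Modules} {Φ : Polynomial ℚ}

/-- The condition is stable under composition. -/
theorem Good.comp {T T' : Scheme.{u}} {g : T ⟶ S} (hg : Good f F L Φ g) (h : T' ⟶ T) :
    Good f F L Φ (h ≫ g) := by
  refine ⟨?_, fun t n => hg.2 (h t) n⟩
  have sq := IsPullback.of_hasPullback f g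
  have sq' := IsPullback.of_hasPullback (pullback.snd f g) h
  refine (isFlatOver_iff_of_isPullback (sq'.paste_horiz sq) F).1 fun x => ?_
  exact FibFlatMod.isFlatOverAt_bc sq' (pullback.fst f g) _ rfl F x (hg.1 _)

/-- The condition is local on the source. -/
theorem good_of_locally {T : Scheme.{u}} {g : T ⟶ S}
    (h : ∀ t : T, ∃ (T' : Scheme.{u}) (j : T' ⟶ T), IsOpenImmersion j ∧ t ∈ Set.range j.base ∧
      Good f F L Φ (j ≫ g)) : Good f F L Φ g := by
  refine ⟨fun x => ?_, fun t n => ?_⟩
  · obtain ⟨T', j, hj, ⟨t', ht'⟩, hgood⟩ := h (pullback.snd f g x)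
    have sq := IsPullback.of_hasPullback f g
    have sq' := IsPullback.of_hasPullback (pullback.snd f g) j
    have hfl := (isFlatOver_iff_of_isPullback (sq'.paste_horiz sq) F).2 hgood.1
    obtain ⟨z, hz, -⟩ := Scheme.Pullback.exists_preimage_pullback x t' ht'.symm
    have h1 := (FibFlatMod.flatAt_openImmersion (f := pullback.snd f g) (f' := pullback.snd (pullback.snd f g) j)
      (jX := pullback.fst (pullback.snd f g) j) (jY := j) sq'.w.symm
      ((Scheme.Modules.pullback (pullback.fst f g)).obj F) z).1
      (GrFlat5.isFlatOverAt_of_iso _ ((Scheme.Modules.pullbackComp _ _).app F).symm z (hfl z))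
    rwa [hz] at h1
  · obtain ⟨T', j, -, ⟨t', ht'⟩, hgood⟩ := h t
    have h1 := hgood.2 t' n
    rwa [Scheme.Hom.comp_apply, ht'] at h1

/-- The condition is compatible with base change of the family. -/
theorem good_bc_iff {X' S' : Scheme.{u}} {q : X' ⟶ X} {f' : X' ⟶ S'} {ρ : S' ⟶ S} [IsProper f]
    (sq : IsPullback q f' f ρ) (hF : Coh.IsQCoh F) (hL : PicF.IsInvertible L) {T : Scheme.{u}} (g : T ⟶ S') :
    Good f' ((Scheme.Modules.pullback q).obj F) ((Scheme.Modules.pullback q).obj L) Φ g ↔
      Good f F L Φ (g ≫ ρ) := by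
  have sq' := (IsPullback.of_hasPullback f' g).paste_horiz sq
  refine and_congr ?_ (forall_congr' fun t => forall_congr' fun n => ?_)
  · refine Iff.trans ?_ (isFlatOver_iff_of_isPullback sq' F)
    exact ⟨fun h x => GrFlat5.isFlatOverAt_of_iso _ ((Scheme.Modules.pullbackComp _ q).app F) x (h x),
      fun h x => GrFlat5.isFlatOverAt_of_iso _ ((Scheme.Modules.pullbackComp _ q).app F).symm x (h x)⟩
  · rw [HilbSnap.eulerChar_twist_bc sq hF hL, Scheme.Hom.comp_apply]

/-- The condition only depends on the modules up to isomorphism. -/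
theorem Good.congr {F' L' : X.Modules} (eF : F ≅ F') (eL : L ≅ L') {T : Scheme.{u}} {g : T ⟶ S}
    (h : Good f F L Φ g) : Good f F' L' Φ g := by
  refine ⟨fun x => GrFlat5.isFlatOverAt_of_iso _ ((Scheme.Modules.pullback _).mapIso eF) x (h.1 x), fun t n => ?_⟩
  obtain ⟨b⟩ : Nonempty (CohB1.tensorPow L n ≅ CohB1.tensorPow L' n) := H23.PicMul.cl_eq_iff.1 (by
    rw [H23.PicMul.cl_tensorPow, H23.PicMul.cl_tensorPow, H23.PicMul.cl_eq_iff.2 ⟨eL⟩])
  rw [← HilbSnap.eulerChar_congr f (PicGrp.tensorModIso eF b)]
  exact h.2 t n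

/-- A module is flat over the spectrum of a field. -/
theorem isFlatOver_field {K : Type u} [Field K] {Y : Scheme.{u}} (p : Y ⟶ Spec (CommRingCat.of K))
    (M : Y.Modules) : FlatMod.IsFlatOver p M := fun y => by
  let R : Type u := (Spec (CommRingCat.of K)).presheaf.stalk (p.base y)
  letI : Algebra K R := StructureSheaf.stalkAlgebra K (p.base y)
  haveI : IsLocalization.AtPrime R (p.base y).asIdeal :=
    StructureSheaf.IsLocalization.to_stalk K (p.base y)
  have hR : IsField R := by
    refine MulEquiv.isField (Field.toIsField K) ?_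
    exact (IsLocalization.atUnits K (p.base y).asIdeal.primeCompl (fun a (ha : a ∉ (p.base y).asIdeal) =>
      isUnit_iff_ne_zero.2 fun h0 => ha (h0 ▸ Ideal.zero_mem _)) (S := R)).toMulEquiv.symm
  show letI := FlatMod.moduleStalkOver p M y; Module.Flat R (M.presheaf.stalk y)
  letI := FlatMod.moduleStalkOver p M y
  letI := hR.toField
  infer_instance

end Groth.Agent.HilbStrat

end
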