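import Groth.Agent.HilbStrat.Uniform
import Groth.Agent.HilbSnap.HighEuler
import Groth.Agent.HilbSnap.FiniteRange
import Groth.Agent.HilbSnap.FlatPush
import Groth.Agent.QCoh.GodHH

/-!
# Euler characteristics of high twists through Fitting ideals of the sections
-/

set_option autoImplicit false
set_option linter.style.haveILetI false
set_option linter.unusedSectionVars false
set_option backward.isDefEq.respectTransparency false
set_option backward.isDefEq.respectTransparency.types false
set_option maxHeartbeats 1000000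
set_option synthInstance.maxHeartbeats 400000

universe u

open CategoryTheory CategoryTheory.Limits AlgebraicGeometry TopologicalSpace Opposite
open scoped TensorProduct

noncomputable section

namespace Groth.Agent.HilbStrat

open Groth.Agent

variable {A : Type u} [CommRing A] {X : Scheme.{u}}

theorem ker_resHom (x : Spec (CommRingCat.of A)) : RingHom.ker (HilbSnap.resHom x) = x.asIdeal := by
  ext a
  rw [RingHom.mem_ker]
  show (Scheme.Spec.residueFieldIso (CommRingCat.of A) x).inv (algebraMap A x.asIdeal.ResidueField a) = 0 ↔ _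
  rw [← Ideal.algebraMap_residueField_eq_zero (I := x.asIdeal)]
  exact map_eq_zero_iff _ (ConcreteCategory.bijective_of_isIso (Scheme.Spec.residueFieldIso (CommRingCat.of A) x).inv).1

/-- The Euler characteristic of a fibre without higher cohomology to which the sections restrict bijectively. -/
theorem eulerChar_le_iff (π : X ⟶ Spec (CommRingCat.of A)) [IsProper π] {G : X.Modules} (hG : CohB1.IsFP G)
    (x : Spec (CommRingCat.of A))
    (hvan : ∀ p, CohIII.fiberRank π G (p + 1) x = 0)
    (hbij : ∀ h : IsPullback (π.fiberι x) (π.fiberToSpecResidueField x) π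
      (Spec.map (CommRingCat.ofHom (HilbSnap.resHom x))), SecBij (HilbSnap.resHom x) h G)
    (hfin : letI := QCoh.secModule (Coh.toGlobal π) G (⊤ : X.Opens); Module.Finite A Γ(G, (⊤ : X.Opens)))
    (k : ℕ) :
    (letI := QCoh.secModule (Coh.toGlobal π) G (⊤ : X.Opens)
     ¬ Fitt.ideal A Γ(G, (⊤ : X.Opens)) k ≤ x.asIdeal) ↔ PerfAux.eulerChar π G x ≤ (k : ℤ) := by
  letI : X.Over (Spec (CommRingCat.of A)) := ⟨π⟩
  letI : (π.fiber x).Over (Spec (CommRingCat.of ((Spec (CommRingCat.of A)).residueField x : Type u))) :=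
    ⟨π.fiberToSpecResidueField x⟩
  letI := (HilbSnap.resHom x).toAlgebra
  letI := QCoh.secModule (Coh.toGlobal π) G (⊤ : X.Opens)
  haveI := hfin
  have h0 : Subsingleton (Coh.HH (π.fiber x) ((Scheme.Modules.pullback (π.fiberι x)).obj G) (0 + 1)) :=
    HilbSnap.subsingleton_fiberH_of_rank π hG 1 x (hvan 0)
  have hχ := HilbSnap.eulerChar_eq_betti_zero π G x fun p =>
    HilbSnap.subsingleton_fiberH_of_rank π hG (p + 1) x (hvan p)
  have hdim : Module.finrank ((Spec (CommRingCat.of A)).residueField x : Type u)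
      (((Spec (CommRingCat.of A)).residueField x : Type u) ⊗[A] Γ(G, (⊤ : X.Opens))) = PerfAux.betti π G x 0 := by
    letI := QCoh.secModule (Coh.toGlobal (A := ((Spec (CommRingCat.of A)).residueField x : Type u)) (π.fiberToSpecResidueField x))
      ((Scheme.Modules.pullback (π.fiberι x)).obj G) (⊤ : (π.fiber x).Opens)
    letI := QCoh.modHH (Coh.toGlobal (A := ((Spec (CommRingCat.of A)).residueField x : Type u)) (π.fiberToSpecResidueField x))
      ((Scheme.Modules.pullback (π.fiberι x)).obj G) 0
    exact ((LinearEquiv.ofBijective _ (hbij (HilbSnap.isPullback_resHom (X := X) x))).trans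
      (QCoh.secH (Coh.toGlobal (A := ((Spec (CommRingCat.of A)).residueField x : Type u)) (π.fiberToSpecResidueField x))
        ((Scheme.Modules.pullback (π.fiberι x)).obj G))).finrank_eq
  rw [hχ, Nat.cast_le, ← hdim, ← not_le_ker_iff_finrank]
  exact Iff.of_eq (by rw [RingHom.algebraMap_toAlgebra, ker_resHom])

/-- Sections of a direct image that is finite locally free. -/
theorem finitePresentation_and_flat_sections (π : X ⟶ Spec (CommRingCat.of A)) [IsProper π] {G : X.Modules}
    (hG : Coh.IsQCoh G) (h : FlatMod.IsFinLocFree ((Scheme.Modules.pushforward π).obj G)) :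
    letI := QCoh.secModule (Coh.toGlobal π) G (⊤ : X.Opens)
    Module.FinitePresentation A Γ(G, (⊤ : X.Opens)) ∧ Module.Flat A Γ(G, (⊤ : X.Opens)) := by
  let P := (Scheme.Modules.pushforward π).obj G
  have hU : IsAffineOpen (⊤ : (Spec (CommRingCat.of A)).Opens) := isAffineOpen_top _
  letI := QCoh.secModule (Coh.toGlobal π) G (⊤ : X.Opens)
  let R := Γ(Spec (CommRingCat.of A), ⊤)
  letI : Algebra A R := (Scheme.ΓSpecIso (CommRingCat.of A)).inv.hom.toAlgebra
  letI mR : Module R Γ(G, (⊤ : X.Opens)) := (inferInstance : Module R Γ(P, ⊤))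
  haveI : IsScalarTower A R Γ(G, (⊤ : X.Opens)) := IsScalarTower.of_algebraMap_smul fun a m =>
    ((congrArg (· • m) (QCoh.ringMap_id (U := (⊤ : X.Opens)) (homOfLE le_top) (Coh.toGlobal π a))).trans rfl).symm
  let e : A ≃ₗ[A] R := LinearEquiv.ofBijective (Algebra.linearMap A R)
    (ConcreteCategory.bijective_of_isIso (Scheme.ΓSpecIso (CommRingCat.of A)).inv)
  haveI : Module.Flat A R := Module.Flat.of_linearEquiv e.symm
  haveI : Module.FinitePresentation A R := Module.FinitePresentation.of_equiv e
  haveI : Module.FinitePresentation R Γ(G, (⊤ : X.Opens)) :=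
    QCoh.finitePresentation_of_isFP (QCoh.isFP_of_isFinLocFree h) hU
  haveI : Module.Flat R Γ(G, (⊤ : X.Opens)) :=
    (QCoh.flat_sections_iff (QCoh.isQCoh_pushforward π hG) hU).2
      fun y _ => KFlatLib.isFlat_of_isFinLocFree h y
  exact ⟨Module.FinitePresentation.trans (R := A) (M := Γ(G, (⊤ : X.Opens))) R, Module.Flat.trans A R _⟩

/-- The Euler characteristic of the twists on a fibre is a polynomial. -/
theorem exists_poly_eulerChar {S : Scheme.{u}} (f : X ⟶ S) [IsProper f]
    {L : X.Modules} (hL : PicF.IsInvertible L) {F : X.Modules} (hF : CohB1.IsFP F) (s : S) :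
    ∃ Q : Polynomial ℚ, ∀ n : ℕ,
      (PerfAux.eulerChar f (CohB1.tensorMod F (CohB1.tensorPow L n)) s : ℚ) = Q.eval (n : ℚ) := by
  obtain ⟨U, d, hsU, hd⟩ := HilbSnap.exists_nhd_dim_le f s
  letI : (f.fiber s).Over (Spec (CommRingCat.of (S.residueField s : Type u))) := ⟨f.fiberToSpecResidueField s⟩
  haveI : IsProper (f.fiber s ↘ Spec (CommRingCat.of (S.residueField s : Type u))) :=
    inferInstanceAs (IsProper (pullback.snd f (S.fromSpecResidueField s)))
  haveI : IsLocallyNoetherian (f.fiber s) :=
    LocallyOfFiniteType.isLocallyNoetherian (f.fiber s ↘ Spec (CommRingCat.of (S.residueField s : Type u)))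
  let g := f.fiberι s
  obtain ⟨P, -, hPn⟩ := Snapper.exists_mpoly (S.residueField s : Type u)
    (L := fun _ : Fin 1 => (Scheme.Modules.pullback g).obj L)
    (fun _ => PicClLib.isInvertible_pullback g hL)
    (QCoh.isCoh_iff_isFP.2 (ModStLib.isFP_pullback g hF))
    ((Topology.IsInducing.subtypeVal.topologicalKrullDim_le).trans (hd s hsU))
  refine ⟨MvPolynomial.aeval (fun _ => Polynomial.X) P, fun n => ?_⟩
  have h1 : ∀ R : MvPolynomial (Fin 1) ℚ, (MvPolynomial.aeval (fun _ => (Polynomial.X : Polynomial ℚ)) R).eval (n : ℚ) =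
      MvPolynomial.eval (fun _ => (n : ℚ)) R := fun R => by
    induction R using MvPolynomial.induction_on with
    | C a => simp
    | add p q hp hq => simp [map_add, hp, hq]
    | mul_X p i hp => simp [map_mul, hp]
  rw [h1, ← hPn fun _ => n]
  obtain ⟨e⟩ := HilbSnap.pullback_tensorPows g F (r := 1) (fun _ => L) (fun _ => n)
  exact congrArg (fun z : ℤ => (z : ℚ)) (CurveCohLib.euler_congr (k := (S.residueField s : Type u)) e)

end Groth.Agent.HilbStrat

end
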