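import Groth.Agent.MorLib.IdealFG2
import Mathlib.RingTheory.Localization.Away.Basic

/-!
# Closed subschemes representing a local condition on morphisms
-/

set_option autoImplicit false
set_option linter.style.haveILetI false
set_option linter.unusedSectionVars false
set_option backward.isDefEq.respectTransparency false
set_option backward.isDefEq.respectTransparency.types false
set_option maxHeartbeats 1000000

universe u

open CategoryTheory CategoryTheory.Limits AlgebraicGeometry TopologicalSpace Opposite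

noncomputable section

namespace Groth.Agent.HilbStrat

open Groth.Agent

variable {O : Scheme.{u}} (P : ∀ ⦃T : Scheme.{u}⦄, (T ⟶ O) → Prop)

/-- The ideal represents the condition on the affine open. -/
def Rep (U : O.affineOpens) (J : Ideal Γ(O, U.1)) : Prop :=
  ∀ (B : Type u) [CommRing B] (φ : Γ(O, U.1) →+* B),
    P (Spec.map (CommRingCat.ofHom φ) ≫ U.2.fromSpec) ↔ J ≤ RingHom.ker φ

variable {P}

theorem Rep.unique {U : O.affineOpens} {J J' : Ideal Γ(O, U.1)} (h : Rep P U J) (h' : Rep P U J') : J = J' :=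
  le_antisymm (((h _ (Ideal.Quotient.mk J')).1 ((h' _ _).2 Ideal.mk_ker.ge)).trans Ideal.mk_ker.le)
    (((h' _ (Ideal.Quotient.mk J)).1 ((h _ _).2 Ideal.mk_ker.ge)).trans Ideal.mk_ker.le)

theorem specMap_res_fromSpec {U U' : O.affineOpens} (hle : U'.1 ≤ U.1) {B : Type u} [CommRing B]
    (φ : Γ(O, U'.1) →+* B) :
    Spec.map (CommRingCat.ofHom (φ.comp (O.presheaf.map (homOfLE hle).op).hom)) ≫ U.2.fromSpec =
      Spec.map (CommRingCat.ofHom φ) ≫ U'.2.fromSpec := by
  rw [CommRingCat.ofHom_comp, Spec.map_comp, Category.assoc, CommRingCat.ofHom_hom,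
    IsAffineOpen.map_fromSpec U.2 U'.2]

/-- A representing ideal restricts to smaller affine opens. -/
theorem Rep.restrict {U U' : O.affineOpens} {J : Ideal Γ(O, U.1)} (h : Rep P U J) (hle : U'.1 ≤ U.1) :
    Rep P U' (J.map (O.presheaf.map (homOfLE hle).op).hom) := fun B _ φ => by
  rw [Ideal.map_le_iff_le_comap, RingHom.comap_ker, ← specMap_res_fromSpec hle]
  exact h B _

variable (hcomp : ∀ ⦃T T' : Scheme.{u}⦄ (g : T ⟶ O) (h : T' ⟶ T), P g → P (h ≫ g))
  (hloc : ∀ ⦃T : Scheme.{u}⦄ (g : T ⟶ O), (∀ t : T, ∃ (T' : Scheme.{u}) (j : T' ⟶ T),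
    IsOpenImmersion j ∧ t ∈ Set.range j.base ∧ P (j ≫ g)) → P g)
  (hrep : ∀ x : O, ∃ V : O.affineOpens, x ∈ V.1 ∧ ∃ J : Ideal Γ(O, V.1), J.FG ∧ Rep P V J)

include hcomp hloc hrep in
/-- Every affine open has a representing ideal. -/
theorem exists_rep (U : O.affineOpens) : ∃ J : Ideal Γ(O, U.1), Rep P U J := by
  classical
  let t₀ : Set Γ(O, U.1) :=
    {r | ∃ J : Ideal Γ(O, O.basicOpen r), Rep P ⟨O.basicOpen r, U.2.basicOpen r⟩ J}
  have ht₀ : Ideal.span t₀ = ⊤ := by
    rw [← U.2.self_le_iSup_basicOpen_iff]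
    intro x hx
    obtain ⟨V, hxV, J, -, hJ⟩ := hrep x
    obtain ⟨r, hrV, hxr⟩ := U.2.exists_basicOpen_le (V := V.1) ⟨x, hxV⟩ hx
    exact Opens.mem_iSup.2 ⟨⟨r, _, hJ.restrict (U' := ⟨O.basicOpen r, U.2.basicOpen r⟩) hrV⟩, hxr⟩
  obtain ⟨t, htsub, ht⟩ := (Ideal.span_eq_top_iff_finite t₀).1 ht₀
  choose Jr hJr using fun r : t => htsub r.2
  let res : ∀ r : Γ(O, U.1), Γ(O, U.1) →+* Γ(O, O.basicOpen r) := fun r =>
    (O.presheaf.map (homOfLE (O.basicOpen_le r)).op).hom
  refine ⟨⨅ r : t, (Jr r).comap (res r.1), fun B _ φ => ?_⟩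
  -- the maps to the localisations
  haveI hloc' : ∀ r : Γ(O, U.1), IsLocalization.Away r Γ(O, O.basicOpen r) :=
    fun r => U.2.isLocalization_basicOpen r
  let ι : ∀ r : t, B →+* Localization.Away (φ r.1) := fun r => algebraMap B _
  let φr : ∀ r : t, Γ(O, O.basicOpen r.1) →+* Localization.Away (φ r.1) := fun r =>
    IsLocalization.Away.lift r.1 (g := (ι r).comp φ) (IsLocalization.Away.algebraMap_isUnit (φ r.1))
  have hφr : ∀ r : t, (φr r).comp (res r.1) = (ι r).comp φ := fun r => IsLocalization.Away.lift_comp r.1 _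
  have hmor : ∀ r : t, Spec.map (CommRingCat.ofHom (ι r)) ≫ Spec.map (CommRingCat.ofHom φ) ≫ U.2.fromSpec =
      Spec.map (CommRingCat.ofHom (φr r)) ≫ (U.2.basicOpen r.1).fromSpec := fun r => by
    rw [← specMap_res_fromSpec (U := U) (U' := ⟨O.basicOpen r.1, U.2.basicOpen r.1⟩) (O.basicOpen_le r.1) (φr r),
      hφr, CommRingCat.ofHom_comp, Spec.map_comp, Category.assoc]
  constructor
  · intro hP x hx
    rw [RingHom.mem_ker]
    have hk : ∀ r : t, ∃ k : ℕ, φ r.1 ^ k * φ x = 0 := fun r => by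
      have h1 : (φr r) (res r.1 x) = 0 :=
        RingHom.mem_ker.1 ((hJr r _ _).1 (hmor r ▸ hcomp _ _ hP) (Ideal.mem_comap.1 (Ideal.mem_iInf.1 hx r)))
      rw [show φr r (res r.1 x) = ι r (φ x) from congrArg (fun f : Γ(O, U.1) →+* _ => f x) (hφr r)] at h1
      obtain ⟨⟨_, k, rfl⟩, hk⟩ := (IsLocalization.map_eq_zero_iff (Submonoid.powers (φ r.1)) _ _).1 h1
      exact ⟨k, hk⟩
    let ann : Ideal B := LinearMap.ker (LinearMap.toSpanSingleton B B (φ x))
    suffices h : (Ideal.span (t : Set Γ(O, U.1))).map φ ≤ ann.radical by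
      rw [ht, Ideal.map_top, top_le_iff, Ideal.radical_eq_top] at h
      simpa [ann] using (h ▸ Submodule.mem_top : (1 : B) ∈ ann)
    rw [Ideal.map_span, Ideal.span_le]
    rintro _ ⟨r, hr, rfl⟩
    obtain ⟨k, hk'⟩ := hk ⟨r, hr⟩
    exact ⟨k, by simpa [ann] using hk'⟩
  · intro hker
    refine hloc _ fun p => ?_
    obtain ⟨r, hr⟩ : ∃ r : t, φ r.1 ∉ p.asIdeal := by
      by_contra hc
      push Not at hc
      refine p.isPrime.ne_top (top_le_iff.1 ?_)
      rw [← Ideal.map_top φ, ← ht, Ideal.map_span, Ideal.span_le]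
      rintro _ ⟨r, hr, rfl⟩
      exact hc ⟨r, hr⟩
    haveI : IsOpenImmersion (Spec.map (CommRingCat.ofHom (ι r))) := IsOpenImmersion.of_isLocalization (φ r.1)
    refine ⟨_, Spec.map (CommRingCat.ofHom (ι r)), inferInstance, ?_, ?_⟩
    · show p ∈ Set.range (PrimeSpectrum.comap (algebraMap B (Localization.Away (φ r.1))))
      rw [PrimeSpectrum.localization_away_comap_range (Localization.Away (φ r.1)) (φ r.1)]
      exact hr
    rw [hmor r]
    refine (hJr r _ _).2 fun y hy => ?_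
    obtain ⟨⟨a, ⟨_, k, rfl⟩⟩, hya⟩ := IsLocalization.surj (Submonoid.powers r.1) y
    -- `r ^ M * a` lies in all the ideals
    have hj : ∀ j : t, ∃ m : ℕ, res j.1 (r.1 ^ m * a) ∈ Jr j := fun j => by
      let c : Γ(O, U.1) →+* Γ(O, O.basicOpen j.1) ⧸ Jr j := (Ideal.Quotient.mk (Jr j)).comp (res j.1)
      let C' := Localization.Away (c r.1)
      let c' : Γ(O, O.basicOpen r.1) →+* C' :=
        IsLocalization.Away.lift r.1 (g := (algebraMap _ C').comp c) (IsLocalization.Away.algebraMap_isUnit (c r.1))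
      have hc' : c'.comp (res r.1) = (algebraMap _ C').comp c := IsLocalization.Away.lift_comp r.1 _
      have hPj : P (Spec.map (CommRingCat.ofHom c) ≫ U.2.fromSpec) := by
        rw [show c = (Ideal.Quotient.mk (Jr j)).comp (res j.1) from rfl,
          specMap_res_fromSpec (U := U) (U' := ⟨O.basicOpen j.1, U.2.basicOpen j.1⟩) (O.basicOpen_le j.1)]
        exact (hJr j _ _).2 Ideal.mk_ker.ge
      have hPr : P (Spec.map (CommRingCat.ofHom c') ≫ (U.2.basicOpen r.1).fromSpec) := by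
        rw [← specMap_res_fromSpec (U := U) (U' := ⟨O.basicOpen r.1, U.2.basicOpen r.1⟩) (O.basicOpen_le r.1) c',
          show c'.comp (O.presheaf.map (homOfLE (O.basicOpen_le r.1)).op).hom = (algebraMap _ C').comp c from hc',
          CommRingCat.ofHom_comp, Spec.map_comp, Category.assoc]
        exact hcomp _ _ hPj
      have h0 : c' y = 0 := RingHom.mem_ker.1 ((hJr r _ _).1 hPr hy)
      have h1 : algebraMap _ C' (c a) = 0 := by
        have h2 := congrArg c' hya
        rw [map_mul, h0, zero_mul] at h2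
        exact (congrArg (fun f : Γ(O, U.1) →+* C' => f a) hc').symm.trans h2.symm
      obtain ⟨⟨_, m, rfl⟩, hm⟩ := (IsLocalization.map_eq_zero_iff (Submonoid.powers (c r.1)) _ _).1 h1
      refine ⟨m, Ideal.Quotient.eq_zero_iff_mem.1 ?_⟩
      show c (r.1 ^ m * a) = 0
      rw [map_mul, map_pow]
      exact hm
    choose m hm using hj
    let M := Finset.univ.sup m
    have hmem : r.1 ^ M * a ∈ ⨅ j : t, (Jr j).comap (res j.1) := Ideal.mem_iInf.2 fun j => by
      obtain ⟨d, hd⟩ := Nat.exists_eq_add_of_le (Finset.le_sup (f := m) (Finset.mem_univ j))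
      rw [Ideal.mem_comap, show r.1 ^ M * a = r.1 ^ d * (r.1 ^ m j * a) by
        rw [← mul_assoc, ← pow_add]; congr 2; simp only [M]; omega, map_mul]
      exact Ideal.mul_mem_left _ _ (hm j)
    have hz : φ (r.1 ^ M * a) = 0 := hker hmem
    have hu : IsUnit (ι r (φ r.1)) := IsLocalization.Away.algebraMap_isUnit (φ r.1)
    have ha0 : ι r (φ a) = 0 := by
      have := congrArg (ι r) hz
      rw [map_mul, map_mul, map_pow, map_pow, map_zero] at this
      exact (hu.pow M).mul_right_eq_zero.1 this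
    rw [RingHom.mem_ker]
    have h3 := congrArg (φr r) hya
    rw [map_mul] at h3
    have h4 : φr r (res r.1 a) = 0 := (congrArg (fun f : Γ(O, U.1) →+* _ => f a) (hφr r)).trans ha0
    have hu' : IsUnit (φr r (algebraMap Γ(O, U.1) Γ(O, O.basicOpen r.1) (r.1 ^ k))) :=
      (show IsUnit (algebraMap Γ(O, U.1) Γ(O, O.basicOpen r.1) (r.1 ^ k)) by
        rw [map_pow]; exact (IsLocalization.Away.algebraMap_isUnit r.1).pow k).map _
    exact hu'.mul_left_eq_zero.1 (h3.trans h4)

include hcomp hloc hrep in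
/-- A local condition represented on small affine opens by finitely generated ideals is represented by a
closed subscheme of finite presentation. -/
theorem exists_ideal_sheaf :
    ∃ I : O.IdealSheafData, MorLib.IdealFG.IsFG I ∧
      ∀ ⦃T : Scheme.{u}⦄ (g : T ⟶ O), (∃ h : T ⟶ I.subscheme, h ≫ I.subschemeι = g) ↔ P g := by
  choose J hJ using exists_rep hcomp hloc hrep
  let I : O.IdealSheafData :=
    { ideal := J
      map_ideal_basicOpen := fun U f =>
        ((hJ U).restrict (U' := O.affineBasicOpen f) (O.basicOpen_le f)).unique (hJ _) }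
  refine ⟨I, fun U => MorLib.IdealFG.fg_of_cover I U fun x _ => ?_, fun T g => ⟨?_, fun hg => ?_⟩⟩
  · obtain ⟨V, hxV, J', hfg, hJ'⟩ := hrep x
    exact ⟨V, hxV, show (J V).FG by rwa [(hJ V).unique hJ']⟩
  · rintro ⟨h, rfl⟩
    refine hcomp _ _ (hloc _ fun w => ?_)
    obtain ⟨U, hU, hwU, -⟩ := exists_isAffineOpen_mem_and_subset (x := I.subschemeι w) (U := ⊤) trivial
    have hW : IsAffineOpen (I.subschemeι ⁻¹ᵁ U) := hU.preimage I.subschemeι
    refine ⟨_, hW.fromSpec, inferInstance, ?_, ?_⟩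
    · rw [hW.range_fromSpec]
      exact hwU
    rw [← IsAffineOpen.SpecMap_appLE_fromSpec I.subschemeι hU hW le_rfl]
    refine (hJ ⟨U, hU⟩ _ (I.subschemeι.appLE U (I.subschemeι ⁻¹ᵁ U) le_rfl).hom).2 ?_
    rw [← Scheme.Hom.app_eq_appLE, I.ker_subschemeι_app ⟨U, hU⟩]
  · have hle : I.subschemeι.ker ≤ g.ker := by
      rw [I.ker_subschemeι]
      refine Scheme.IdealSheafData.le_ofIdeals_iff.2 fun U x hx => ?_
      rw [RingHom.mem_ker]
      refine T.sheaf.eq_of_locally_eq' (fun W : {W : T.affineOpens // W.1 ≤ g ⁻¹ᵁ U.1} => W.1.1) (g ⁻¹ᵁ U.1)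
        (fun W => homOfLE W.2) (fun y hy => ?_) _ _ fun W => ?_
      · obtain ⟨W, hW, hyW, hWU⟩ := exists_isAffineOpen_mem_and_subset (x := y) (U := g ⁻¹ᵁ U.1) hy
        exact Opens.mem_iSup.2 ⟨⟨⟨W, hW⟩, hWU⟩, hyW⟩
      · have h1 : P (Spec.map (CommRingCat.ofHom (g.appLE U.1 W.1.1 W.2).hom) ≫ U.2.fromSpec) := by
          rw [show Spec.map (CommRingCat.ofHom (g.appLE U.1 W.1.1 W.2).hom) = Spec.map (g.appLE U.1 W.1.1 W.2)
            from rfl, IsAffineOpen.SpecMap_appLE_fromSpec g U.2 W.1.2 W.2]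
          exact hcomp _ _ hg
        have h2 : (g.appLE U.1 W.1.1 W.2).hom x = 0 := RingHom.mem_ker.1 ((hJ U _ _).1 h1 hx)
        show T.presheaf.map (homOfLE W.2).op (g.app U.1 x) = T.presheaf.map (homOfLE W.2).op 0
        rw [map_zero, ← h2]
        rfl
    exact ⟨IsClosedImmersion.lift I.subschemeι g hle, IsClosedImmersion.lift_fac _ _ _⟩

end Groth.Agent.HilbStrat

end
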