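import Groth.Agent.HilbStrat.HighClosed
import Groth.Agent.HilbSnap.UniformVan
import Groth.Agent.PBC.Top
import Groth.Agent.TwistFlat.Main
import Groth.Agent.S4381
import Groth.Agent.S4799

/-!
# Uniform base change of the sections of high twists to all field valued points
-/

set_option autoImplicit false
set_option linter.style.haveILetI false
set_option linter.unusedSectionVars false
set_option backward.isDefEq.respectTransparency false
set_option backward.isDefEq.respectTransparency.types false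
set_option maxHeartbeats 1000000
set_option synthInstance.maxHeartbeats 400000

universe u

open CategoryTheory CategoryTheory.Limits AlgebraicGeometry TopologicalSpace
open scoped TensorProduct

noncomputable section

namespace Groth.Agent.HilbStrat

open Groth.Agent

variable {A : Type u} [CommRing A] {X : Scheme.{u}}

/-- Base change to a ring over which the module is flat, with vanishing on the fibres. -/
theorem secBij_of_flatOver {B C : Type u} [CommRing B] [CommRing C] {Y Y' : Scheme.{u}}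
    {p : Y ⟶ Spec (CommRingCat.of B)} [IsProper p] [LocallyOfFinitePresentation p]
    {p' : Y' ⟶ Spec (CommRingCat.of C)} {ψ : B →+* C} {g : Y' ⟶ Y}
    (h : IsPullback g p' p (Spec.map (CommRingCat.ofHom ψ))) {G : Y.Modules} (hG : CohB1.IsFP G)
    (hfl : FlatMod.IsFlatOver p G) (hvan : ∀ y, CohIII.fiberRank p G 1 y = 0) : SecBij ψ h G :=
  secBij_of_isIso_bc0 h (QCoh.isQCoh_of_isFP hG)
    ((PBC.isFinLocFree_and_isIso_bc0 p hG hfl ⊤
      fun s _ => Or.inr (HilbSnap.subsingleton_fiberH_of_rank p hG 1 s (hvan s))).2 _ _ _ _ _ h fun _ => trivial)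

/-- For high twists sections commute with base change to every field valued point. -/
theorem exists_uniform_secBij [IsNoetherianRing A] (π : X ⟶ Spec (CommRingCat.of A)) [IsProper π]
    {L : X.Modules} (hL : CohB1.IsAmple L) {F : X.Modules} (hF : Coh.IsCoh F) :
    ∃ N, ∀ n, N ≤ n → ∀ (K : Type u) [Field K] (φ : A →+* K) (X' : Scheme.{u}) (g : X' ⟶ X)
      (π' : X' ⟶ Spec (CommRingCat.of K)) (h : IsPullback g π' π (Spec.map (CommRingCat.ofHom φ))),
      SecBij φ h (CohB1.tensorMod F (CohB1.tensorPow L n)) := by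
  classical
  haveI : IsLocallyNoetherian X := LocallyOfFiniteType.isLocallyNoetherian π
  have hLi := (AmpleX.isAmple_iff.1 hL).1
  obtain ⟨Nv, hNv⟩ := HilbSnap.exists_uniform_fiber_vanishing π hLi ((S4381.result π L).2 hL) hF
  let G : ℕ → X.Modules := fun n => CohB1.tensorMod F (CohB1.tensorPow L n)
  have hG : ∀ n, CohB1.IsFP (G n) := fun n =>
    HilbSnap.isFP_tensor_invertible (QCoh.isCoh_iff_isFP.1 hF) (H23.PicMul.isInvertible_tensorPow hLi n)
  obtain ⟨N, hN⟩ := exists_nat_forall_prime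
    (fun (N : ℕ) (p : Ideal A) => ∀ n, N ≤ n → ∀ (K : Type u) [Field K] (φ : A →+* K), RingHom.ker φ = p →
      ∀ (X' : Scheme.{u}) (g : X' ⟶ X) (π' : X' ⟶ Spec (CommRingCat.of K))
        (h : IsPullback g π' π (Spec.map (CommRingCat.ofHom φ))), SecBij φ h (G n))
    (fun hle hq n hn => hq n (hle.trans hn)) (fun q hq => by
      haveI := hq
      let A₁ := A ⧸ q
      let σ₁ := Spec.map (CommRingCat.ofHom (Ideal.Quotient.mk q))
      let X₁ := pullback π σ₁
      let i : X₁ ⟶ X := pullback.fst π σ₁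
      let π₁ : X₁ ⟶ Spec (CommRingCat.of A₁) := pullback.snd π σ₁
      have sq₁ : IsPullback i π₁ π σ₁ := IsPullback.of_hasPullback π σ₁
      haveI : IsLocallyNoetherian X₁ := LocallyOfFiniteType.isLocallyNoetherian π₁
      obtain ⟨N₁, hN₁⟩ := exists_secBij_closed sq₁ hL hF
      let F₁ := (Scheme.Modules.pullback i).obj F
      have hF₁ : CohB1.IsFP F₁ := ModStLib.isFP_pullback i (QCoh.isCoh_iff_isFP.1 hF)
      haveI : Coh.IsQCoh F₁ := QCoh.isQCoh_of_isFP hF₁
      haveI : IsIntegral (Spec (CommRingCat.of A₁)) := inferInstance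
      obtain ⟨U, ⟨z, hz⟩, hU⟩ := S4799.result π₁ F₁ hF₁
      obtain ⟨_, ⟨b, rfl⟩, hzb, hbU⟩ := PrimeSpectrum.isTopologicalBasis_basic_opens.exists_subset_of_mem_open
        hz U.2
      obtain ⟨a, rfl⟩ := Ideal.Quotient.mk_surjective b
      have ha : a ∉ q := fun h => hzb (by
        rw [Ideal.Quotient.eq_zero_iff_mem.2 h]; exact z.asIdeal.zero_mem)
      refine ⟨a, max N₁ Nv, ha, fun p hp hqp hap n hn K _ φ hφ X' g π' h => ?_⟩
      let b : A₁ := Ideal.Quotient.mk q a
      let B := Localization.Away b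
      let σ₂ := Spec.map (CommRingCat.ofHom (algebraMap A₁ B))
      haveI : IsOpenImmersion σ₂ := IsOpenImmersion.of_isLocalization b
      let X₂ := pullback π₁ σ₂
      let j : X₂ ⟶ X₁ := pullback.fst π₁ σ₂
      let π₂ : X₂ ⟶ Spec (CommRingCat.of B) := pullback.snd π₁ σ₂
      have sq₂ : IsPullback j π₂ π₁ σ₂ := IsPullback.of_hasPullback π₁ σ₂
      haveI : IsProper π₁ := inferInstanceAs (IsProper (pullback.snd π σ₁))
      haveI : IsProper π₂ := inferInstanceAs (IsProper (pullback.snd π₁ σ₂))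
      let G₁ := (Scheme.Modules.pullback i).obj (G n)
      have hG₁ : CohB1.IsFP G₁ := ModStLib.isFP_pullback i (hG n)
      have hG₂ : CohB1.IsFP ((Scheme.Modules.pullback j).obj G₁) := ModStLib.isFP_pullback j hG₁
      have hrange : ∀ w, σ₂ w ∈ U := fun w => hbU (by
        have : σ₂ w ∈ Set.range σ₂ := ⟨w, rfl⟩
        rwa [show Set.range σ₂ = (PrimeSpectrum.basicOpen b : Set (PrimeSpectrum A₁)) from
          PrimeSpectrum.localization_away_comap_range B b] at this)
      have hfl : FlatMod.IsFlatOver π₂ ((Scheme.Modules.pullback j).obj G₁) := fun x => by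
        obtain ⟨e₁⟩ := H23.PicMul.pull i F (CohB1.tensorPow L n)
        obtain ⟨e₂⟩ := H23.PicMul.pull j F₁ ((Scheme.Modules.pullback i).obj (CohB1.tensorPow L n))
        refine GrFlat5.isFlatOverAt_of_iso _ (((Scheme.Modules.pullback j).mapIso e₁).trans e₂).symm x
          (TwistFlat.isFlatOver_tensor π₂ (PicClLib.isInvertible_pullback j (PicClLib.isInvertible_pullback i
            (H23.PicMul.isInvertible_tensorPow hLi n))) (fun x =>
              MorLib.FlatBC.isFlatOverAt_baseChange π₁ π₂ j σ₂ sq₂ F₁ x (hU _ ?_)) x)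
        show π₁ (j x) ∈ U
        rw [← Scheme.Hom.comp_apply, sq₂.w, Scheme.Hom.comp_apply]
        exact hrange _
      have hvan : ∀ y, CohIII.fiberRank π₂ ((Scheme.Modules.pullback j).obj G₁) 1 y = 0 := fun y =>
        (PBC.fiberRank_congr π₂ ((Scheme.Modules.pullbackComp j i).app (G n)) 1 y).trans
          ((PBC.fiberRank_bc (sq₂.paste_horiz sq₁) (QCoh.isQCoh_of_isFP (hG n)) 1 y).trans
            (hNv n (le_of_max_le_right hn) _ 0))
      -- factor the point through `B`
      let φ₁ : A₁ →+* K := Ideal.Quotient.lift q φ fun x hx => by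
        have := hqp hx; rwa [← hφ, RingHom.mem_ker] at this
      have hb : IsUnit (φ₁ b) := isUnit_iff_ne_zero.2 fun h0 => hap (hφ ▸ RingHom.mem_ker.2 h0)
      let φ₂ : B →+* K := IsLocalization.Away.lift b hb
      have hφ₂ : φ₂.comp (algebraMap A₁ B) = φ₁ := IsLocalization.Away.lift_comp b hb
      have hφ₁ : φ₁.comp (Ideal.Quotient.mk q) = φ := RingHom.ext fun _ => rfl
      have hw₁ : g ≫ π = (π' ≫ Spec.map (CommRingCat.ofHom φ₁)) ≫ σ₁ := by
        rw [Category.assoc, ← Spec.map_comp, ← CommRingCat.ofHom_comp, hφ₁, h.w]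
      let g₁ : X' ⟶ X₁ := sq₁.lift g (π' ≫ Spec.map (CommRingCat.ofHom φ₁)) hw₁
      have h₁ : IsPullback g₁ π' π₁ (Spec.map (CommRingCat.ofHom φ₁)) :=
        IsPullback.of_right (by
          rw [sq₁.lift_fst, ← Spec.map_comp, ← CommRingCat.ofHom_comp, hφ₁]; exact h) (sq₁.lift_snd _ _ _) sq₁
      have hw₂ : g₁ ≫ π₁ = (π' ≫ Spec.map (CommRingCat.ofHom φ₂)) ≫ σ₂ := by
        rw [Category.assoc, ← Spec.map_comp, ← CommRingCat.ofHom_comp, hφ₂, h₁.w]
      let g₂ : X' ⟶ X₂ := sq₂.lift g₁ (π' ≫ Spec.map (CommRingCat.ofHom φ₂)) hw₂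
      have h₂ : IsPullback g₂ π' π₂ (Spec.map (CommRingCat.ofHom φ₂)) :=
        IsPullback.of_right (by
          rw [sq₂.lift_fst, ← Spec.map_comp, ← CommRingCat.ofHom_comp, hφ₂]; exact h₁) (sq₂.lift_snd _ _ _) sq₂
      exact SecBij.comp hφ₁.symm (sq₁.lift_fst _ _ _) h (hN₁ n (le_of_max_le_left hn))
        (SecBij.comp (h' := h₂) hφ₂.symm (sq₂.lift_fst _ _ _) h₁ (secBij_of_flat sq₂ (QCoh.isQCoh_of_isFP hG₁))
          (secBij_of_flatOver h₂ hG₂ hfl hvan)))
  exact ⟨N, fun n hn K _ φ X' g π' h => hN (RingHom.ker φ) (RingHom.ker_isPrime φ) n hn K φ rfl X' g π' h⟩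

end Groth.Agent.HilbStrat

end
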