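import Groth.Agent.HilbStrat.Local

/-!
# The subscheme of given Hilbert polynomial
-/

set_option autoImplicit false
set_option linter.style.haveILetI false
set_option linter.unusedSectionVars false
set_option backward.isDefEq.respectTransparency false
set_option backward.isDefEq.respectTransparency.types false
set_option maxHeartbeats 1000000
set_option synthInstance.maxHeartbeats 400000

universe u

open CategoryTheory CategoryTheory.Limits AlgebraicGeometry TopologicalSpace

noncomputable section

namespace Groth.Agent.HilbStrat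

open Groth.Agent

variable {X S : Scheme.{u}}

/-- The subscheme of given Hilbert polynomial represents flatness with that Hilbert polynomial. -/
theorem exists_stratum (f : X ⟶ S) [IsProper f] [LocallyOfFinitePresentation f] {L : X.Modules}
    (hL : RelAmple.IsRelAmple f L) {F : X.Modules} (hF : CohB1.IsFP F) (Φ : Polynomial ℚ) :
    ∃ (W : Scheme.{u}) (i : W ⟶ S), IsImmersion i ∧ QuasiCompact i ∧ LocallyOfFinitePresentation i ∧
      Set.range i.base = stratum f F L Φ ∧
      ∀ (T : Scheme.{u}) (g : T ⟶ S), (∃ h : T ⟶ W, h ≫ i = g) ↔ Good f F L Φ g := by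
  have hLi := AmpleX.isInvertible_of_isRelAmple hL
  let O : S.Opens := ⟨(badSet f F L Φ)ᶜ,
    (HilbSnap.isClosed_setOf_eventually_ge f hF hLi hL (Φ + 1)).isOpen_compl⟩
  obtain ⟨I, hfg, hI⟩ := exists_ideal_sheaf (P := fun T (g : T ⟶ O.toScheme) => Good f F L Φ (g ≫ O.ι))
    (fun T T' g h hg => by rw [Category.assoc]; exact hg.comp h)
    (fun T g hg => good_of_locally fun t => by
      obtain ⟨T', j, hj, ht, hgood⟩ := hg t
      exact ⟨T', j, hj, ht, by rwa [← Category.assoc]⟩)
    (fun x => exists_local_rep f hL hF Φ O (fun s hs => hs) x)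
  haveI : LocallyOfFinitePresentation I.subschemeι := MorLib.IdealFG.lfp_subschemeι hfg
  let i := I.subschemeι ≫ O.ι
  have huniv : ∀ (T : Scheme.{u}) (g : T ⟶ S), (∃ h : T ⟶ I.subscheme, h ≫ i = g) ↔ Good f F L Φ g := by
    intro T g
    constructor
    · rintro ⟨h, rfl⟩
      have := (hI (h ≫ I.subschemeι)).1 ⟨h, rfl⟩
      rwa [← Category.assoc]
    · intro hg
      have hr : Set.range g ⊆ Set.range O.ι := by
        rintro _ ⟨t, rfl⟩
        rw [Scheme.Opens.range_ι]
        exact notMem_badSet_of_mem_stratum (fun n => hg.2 t n)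
      obtain ⟨h, hh⟩ := (hI (IsOpenImmersion.lift O.ι g hr)).2 (by rwa [IsOpenImmersion.lift_fac])
      exact ⟨h, by rw [← Category.assoc, hh, IsOpenImmersion.lift_fac]⟩
  have hrange : Set.range i.base = stratum f F L Φ := by
    ext s
    constructor
    · rintro ⟨w, rfl⟩
      exact fun n => ((huniv _ i).1 ⟨𝟙 _, Category.id_comp _⟩).2 w n
    · intro hs
      obtain ⟨h, hh⟩ := (huniv _ (S.fromSpecResidueField s)).2
        ⟨isFlatOver_field (K := (S.residueField s : Type u)) (pullback.snd f (S.fromSpecResidueField s)) _,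
          fun t n => by rw [Scheme.fromSpecResidueField_apply]; exact hs n⟩
      refine ⟨h default, ?_⟩
      rw [← Scheme.Hom.comp_apply, hh, Scheme.fromSpecResidueField_apply]
  have hqc : QuasiCompact i := by
    haveI : IsImmersion i := inferInstanceAs (IsImmersion (I.subschemeι ≫ O.ι))
    refine quasiCompact_iff_forall_isAffineOpen.2 fun U hU => ?_
    rw [i.isEmbedding.isInducing.isCompact_iff, Scheme.Hom.coe_preimage, Set.image_preimage_eq_inter_range, hrange]
    have hc := (isCompact_preimage_stratum f hL hF Φ hU.fromSpec).image hU.fromSpec.continuous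
    rwa [Set.image_preimage_eq_inter_range, hU.range_fromSpec, Set.inter_comm] at hc
  exact ⟨I.subscheme, i, inferInstanceAs (IsImmersion (I.subschemeι ≫ O.ι)), hqc,
    inferInstanceAs (LocallyOfFinitePresentation (I.subschemeι ≫ O.ι)), hrange, huniv⟩

end Groth.Agent.HilbStrat

end
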