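import Groth.Agent.HilbStrat.Basic
import Groth.Agent.HilbStrat.Euler
import Groth.Agent.HilbSnap.FlatCrit
import Mathlib.Analysis.Polynomial.Basic
import Mathlib.RingTheory.Flat.EquationalCriterion

/-!
# The ideal of the stratum with given Hilbert polynomial over a Noetherian affine base
-/

set_option autoImplicit false
set_option linter.style.haveILetI false
set_option linter.unusedSectionVars false
set_option backward.isDefEq.respectTransparency false
set_option backward.isDefEq.respectTransparency.types false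
set_option maxHeartbeats 1000000
set_option synthInstance.maxHeartbeats 400000

universe u

open CategoryTheory CategoryTheory.Limits AlgebraicGeometry TopologicalSpace
open scoped TensorProduct

noncomputable section

namespace Groth.Agent.HilbStrat

open Groth.Agent

/-- A rational polynomial has eventually constant sign. -/
theorem eventually_sign (D : Polynomial ℚ) :
    (∃ N : ℕ, ∀ n, N ≤ n → 0 ≤ D.eval (n : ℚ)) ∨ ∃ N : ℕ, ∀ n, N ≤ n → D.eval (n : ℚ) < 0 := by
  rcases lt_or_ge 0 D.degree with hd | hd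
  · rcases le_total 0 D.leadingCoeff with hl | hl
    · exact Or.inl (Filter.eventually_atTop.1 (((D.tendsto_atTop_of_leadingCoeff_nonneg hd hl).comp
        tendsto_natCast_atTop_atTop).eventually_ge_atTop 0))
    · exact Or.inr (Filter.eventually_atTop.1 (((D.tendsto_atBot_of_leadingCoeff_nonpos hd hl).comp
        tendsto_natCast_atTop_atTop).eventually_lt_atBot 0))
  · rw [Polynomial.eq_C_of_degree_le_zero hd]
    simp only [Polynomial.eval_C]
    rcases le_or_gt 0 (D.coeff 0) with h | h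
    · exact Or.inl ⟨0, fun _ _ => h⟩
    · exact Or.inr ⟨0, fun _ _ => h⟩

/-- Polynomials agreeing at all large natural numbers are equal. -/
theorem eq_of_eventually_eval_eq {P Q : Polynomial ℚ} (N : ℕ)
    (h : ∀ n : ℕ, N ≤ n → P.eval (n : ℚ) = Q.eval (n : ℚ)) : P = Q := by
  refine Polynomial.eq_of_infinite_eval_eq _ _ ((Set.Ici_infinite N).image
    (Nat.cast_injective (R := ℚ)).injOn |>.mono ?_)
  rintro _ ⟨n, hn, rfl⟩
  exact h n hn

variable {A : Type u} [CommRing A] {X : Scheme.{u}}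

theorem finite_sections [IsNoetherianRing A] (π : X ⟶ Spec (CommRingCat.of A)) [IsProper π]
    {G : X.Modules} (hG : Coh.IsCoh G) :
    letI := QCoh.secModule (Coh.toGlobal π) G (⊤ : X.Opens); Module.Finite A Γ(G, (⊤ : X.Opens)) := by
  letI : X.Over (Spec (CommRingCat.of A)) := ⟨π⟩
  haveI : IsProper (X ↘ Spec (CommRingCat.of A)) := ‹IsProper π›
  haveI : IsLocallyNoetherian X := LocallyOfFiniteType.isLocallyNoetherian π
  letI := QCoh.secModule (Coh.toGlobal π) G (⊤ : X.Opens)
  haveI : Module.Finite A (Coh.HH X G 0) := Groth.Agent.S0002.result A X G hG 0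
  exact Module.Finite.equiv (QCoh.secH (Coh.toGlobal π) G).symm

/-- A statement about fibre dimensions in Fitting form. -/
theorem finrank_eq_toNat {R : Type u} [CommRing R] {M : Type u} [AddCommGroup M] [Module R M] [Module.Finite R M]
    (p : Ideal R) [p.IsPrime] {z : ℤ} (h : ∀ k : ℕ, ¬ Fitt.ideal R M k ≤ p ↔ z ≤ (k : ℤ)) :
    Module.finrank p.ResidueField (p.ResidueField ⊗[R] M) = z.toNat := by
  have h' : ∀ k, Module.finrank p.ResidueField (p.ResidueField ⊗[R] M) ≤ k ↔ z ≤ (k : ℤ) := fun k => by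
    rw [← not_le_ker_iff_finrank, Ideal.ker_algebraMap_residueField]
    exact h k
  refine le_antisymm ((h' _).2 (Int.self_le_toNat z)) ?_
  have := (h' _).1 le_rfl
  omega

/-- The stratum of a nonintegral polynomial is empty. -/
theorem good_iff_of_not_int (π : X ⟶ Spec (CommRingCat.of A)) (F L : X.Modules) (Φ : Polynomial ℚ)
    {n₀ : ℕ} (hn₀ : ∀ z : ℤ, Φ.eval (n₀ : ℚ) ≠ (z : ℚ)) {B : Type u} [CommRing B] (φ : A →+* B) :
    Good π F L Φ (Spec.map (CommRingCat.ofHom φ)) ↔ (⊤ : Ideal A) ≤ RingHom.ker φ := by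
  constructor
  · intro h
    have he : IsEmpty (Spec (CommRingCat.of B)) := ⟨fun t => hn₀ _ (h.2 t n₀).symm⟩
    haveI : Subsingleton B := PrimeSpectrum.isEmpty_iff_subsingleton.1 he
    exact fun a _ => RingHom.mem_ker.2 (Subsingleton.elim _ _)
  · intro h
    haveI : Subsingleton B := subsingleton_of_zero_eq_one
      ((RingHom.mem_ker.1 (h (Submodule.mem_top (x := (1 : A))))).symm.trans (map_one φ))
    haveI : IsEmpty (Spec (CommRingCat.of B)) := PrimeSpectrum.isEmpty_iff_subsingleton.2 inferInstance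
    exact ⟨fun x => isEmptyElim (pullback.snd π (Spec.map (CommRingCat.ofHom φ)) x), fun t => isEmptyElim t⟩

section Main

variable [IsNoetherianRing A] (π : X ⟶ Spec (CommRingCat.of A)) [IsProper π] {L : X.Modules}
  (hL : CohB1.IsAmple L) {F : X.Modules} (hF : Coh.IsCoh F) (Φ : Polynomial ℚ) (z : ℕ → ℤ)
  (hz : ∀ n : ℕ, Φ.eval (n : ℚ) = (z n : ℚ))

include hL hF hz in
/-- If no Hilbert polynomial exceeds `Φ` then they are uniformly bounded by it for large arguments. -/
theorem exists_uniform_le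
    (hbad : ∀ x : Spec (CommRingCat.of A), ¬ ∃ N : ℕ, ∀ n : ℕ, N ≤ n → Φ.eval (n : ℚ) + 1 ≤
      (PerfAux.eulerChar π (CohB1.tensorMod F (CohB1.tensorPow L n)) x : ℚ)) :
    ∃ N, ∀ n, N ≤ n → ∀ x, PerfAux.eulerChar π (CohB1.tensorMod F (CohB1.tensorPow L n)) x ≤ z n := by
  classical
  haveI : IsLocallyNoetherian X := LocallyOfFiniteType.isLocallyNoetherian π
  have hLi := (AmpleX.isAmple_iff.1 hL).1
  have hfin := HilbSnap.finite_range_eulerChar_twists π hLi F (QCoh.isCoh_iff_isFP.1 hF)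
  have hx : ∀ x, ∃ N, ∀ n, N ≤ n →
      PerfAux.eulerChar π (CohB1.tensorMod F (CohB1.tensorPow L n)) x ≤ z n := fun x => by
    obtain ⟨Q, hQ⟩ := exists_poly_eulerChar π hLi (QCoh.isCoh_iff_isFP.1 hF) x
    rcases eventually_sign (Q - Φ - 1) with ⟨N, hN⟩ | ⟨N, hN⟩
    · refine absurd ⟨N, fun n hn => ?_⟩ (hbad x)
      have := hN n hn
      simp only [Polynomial.eval_sub, Polynomial.eval_one] at this
      rw [hQ n]
      linarith
    · refine ⟨N, fun n hn => ?_⟩
      have := hN n hn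
      simp only [Polynomial.eval_sub, Polynomial.eval_one, ← hQ n, hz n] at this
      have h2 : PerfAux.eulerChar π (CohB1.tensorMod F (CohB1.tensorPow L n)) x - z n - 1 < 0 := by
        exact_mod_cast this
      omega
  choose N hN using hx
  let E := fun (x : Spec (CommRingCat.of A)) (n : ℕ) =>
    PerfAux.eulerChar π (CohB1.tensorMod F (CohB1.tensorPow L n)) x
  have hrep : ∀ φ : hfin.toFinset, ∃ x, E x = φ.1 := fun φ => hfin.mem_toFinset.1 φ.2
  choose x₀ hx₀ using hrep
  refine ⟨Finset.univ.sup fun φ => N (x₀ φ), fun n hn x => ?_⟩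
  have hmem : E x ∈ hfin.toFinset := hfin.mem_toFinset.2 ⟨x, rfl⟩
  have he : E x n = E (x₀ ⟨E x, hmem⟩) n := (congrFun (hx₀ ⟨E x, hmem⟩) n).symm
  show E x n ≤ z n
  rw [he]
  exact hN _ n ((Finset.le_sup (f := fun φ => N (x₀ φ)) (Finset.mem_univ _)).trans hn)

/-- The Fitting ideals cutting out the stratum. -/
def fitIdeal (F L : X.Modules) (n k : ℕ) : Ideal A :=
  letI := QCoh.secModule (Coh.toGlobal π) (CohB1.tensorMod F (CohB1.tensorPow L n)) (⊤ : X.Opens)
  Fitt.ideal A Γ(CohB1.tensorMod F (CohB1.tensorPow L n), (⊤ : X.Opens)) k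

include hL hF hz in
/-- Flatness with Hilbert polynomial `Φ` kills the Fitting ideals of high twists. -/
theorem fitIdeal_le_ker_of_good {n : ℕ}
    (hbij : ∀ (K : Type u) [Field K] (φ : A →+* K) (X' : Scheme.{u}) (g : X' ⟶ X)
      (π' : X' ⟶ Spec (CommRingCat.of K)) (h : IsPullback g π' π (Spec.map (CommRingCat.ofHom φ))),
      SecBij φ h (CohB1.tensorMod F (CohB1.tensorPow L n)))
    (hvan : ∀ (x : Spec (CommRingCat.of A)) (p : ℕ),
      CohIII.fiberRank π (CohB1.tensorMod F (CohB1.tensorPow L n)) (p + 1) x = 0)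
    {B : Type u} [CommRing B] {φ : A →+* B} (hgood : Good π F L Φ (Spec.map (CommRingCat.ofHom φ)))
    {k : ℕ} (hk : k < (z n).toNat) : fitIdeal π F L n k ≤ RingHom.ker φ := by
  haveI : IsLocallyNoetherian X := LocallyOfFiniteType.isLocallyNoetherian π
  haveI : LocallyOfFinitePresentation π := inferInstance
  have hLi := (AmpleX.isAmple_iff.1 hL).1
  let σ := Spec.map (CommRingCat.ofHom φ)
  let P := pullback π σ
  let i : P ⟶ X := pullback.fst π σ
  let πB : P ⟶ Spec (CommRingCat.of B) := pullback.snd π σ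
  have sq : IsPullback i πB π σ := IsPullback.of_hasPullback π σ
  let G := CohB1.tensorMod F (CohB1.tensorPow L n)
  have hG : CohB1.IsFP G :=
    HilbSnap.isFP_tensor_invertible (QCoh.isCoh_iff_isFP.1 hF) (H23.PicMul.isInvertible_tensorPow hLi n)
  let GB := (Scheme.Modules.pullback i).obj G
  have hGB : CohB1.IsFP GB := ModStLib.isFP_pullback i hG
  have hfl : FlatMod.IsFlatOver πB GB := fun x => by
    obtain ⟨e⟩ := H23.PicMul.pull i F (CohB1.tensorPow L n)
    exact GrFlat5.isFlatOverAt_of_iso _ e.symm x (TwistFlat.isFlatOver_tensor πB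
      (PicClLib.isInvertible_pullback i (H23.PicMul.isInvertible_tensorPow hLi n)) hgood.1 x)
  have hvB : ∀ y p, CohIII.fiberRank πB GB (p + 1) y = 0 := fun y p =>
    (PBC.fiberRank_bc sq (QCoh.isQCoh_of_isFP hG) (p + 1) y).trans (hvan _ p)
  have hloc := PBC.isFinLocFree_of_restrict_top (PBC.isFinLocFree_and_isIso_bc0 πB hGB hfl ⊤
    fun s _ => Or.inr (HilbSnap.subsingleton_fiberH_of_rank πB hGB 1 s (hvB s 0))).1
  obtain ⟨hfp, hflat⟩ := finitePresentation_and_flat_sections πB (QCoh.isQCoh_of_isFP hGB) hloc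
  letI : X.Over (Spec (CommRingCat.of A)) := ⟨π⟩
  letI : P.Over (Spec (CommRingCat.of B)) := ⟨πB⟩
  letI := φ.toAlgebra
  letI := QCoh.secModule (Coh.toGlobal π) G (⊤ : X.Opens)
  letI := QCoh.secModule (Coh.toGlobal πB) GB (⊤ : P.Opens)
  haveI := finite_sections π (QCoh.isCoh_iff_isFP.2 hG)
  haveI := hfp
  haveI := hflat
  haveI : Module.Projective B Γ(GB, (⊤ : P.Opens)) := Module.Flat.projective_of_finitePresentation
  let L₁ := PBC.sectionsBC φ i sq (F := G)
  have hL₁ : Function.Bijective L₁ := AzumayaX.bijective_of_fibres L₁ fun m hm => by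
    let ψ : B →+* m.ResidueField := algebraMap B m.ResidueField
    let σ' := Spec.map (CommRingCat.ofHom ψ)
    have sq' : IsPullback (pullback.fst πB σ') (pullback.snd πB σ') πB σ' := IsPullback.of_hasPullback πB σ'
    have sq'' : IsPullback (pullback.fst πB σ' ≫ i) (pullback.snd πB σ') π
        (Spec.map (CommRingCat.ofHom (ψ.comp φ))) := by
      rw [CommRingCat.ofHom_comp, Spec.map_comp]
      exact sq'.paste_horiz sq
    have h := (secBij_comp_iff (χ := ψ.comp φ) rfl rfl sq sq' sq''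
      (secBij_of_flatOver sq' hGB hfl fun y => hvB y 0)).1 (hbij _ _ _ _ _ sq'')
    have hψ : ψ.toAlgebra = (inferInstance : Algebra B m.ResidueField) := Algebra.algebra_ext _ _ fun _ => rfl
    rw [hψ] at h
    exact h
  let y₀ : ∀ (p : Ideal B) [p.IsPrime], Spec (CommRingCat.of B) := fun p _ => ⟨p, inferInstance⟩
  have hrank : ∀ (p : Ideal B) [p.IsPrime],
      Module.finrank p.ResidueField (p.ResidueField ⊗[B] Γ(GB, (⊤ : P.Opens))) = (z n).toNat := fun p _ => by
    refine finrank_eq_toNat p fun j => ?_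
    refine (eulerChar_le_iff πB hGB (y₀ p) (hvB _) (fun h => secBij_of_flatOver h hGB hfl fun y => hvB y 0)
      inferInstance j).trans ?_
    rw [HilbSnap.eulerChar_bc sq (QCoh.isQCoh_of_isFP hG) (y₀ p)]
    have h1 := hgood.2 (y₀ p) n
    rw [hz n] at h1
    rw [Int.cast_injective h1]
  have hbot := ideal_eq_bot_of_flat hrank hk
  rw [← FittX.ideal_congr (LinearEquiv.ofBijective L₁ hL₁), FittX.ideal_baseChange
    (TensorProduct.isBaseChange A Γ(G, (⊤ : X.Opens)) B)] at hbot
  exact (Ideal.map_eq_bot_iff_le_ker _).1 hbot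

include hL hF hz in
/-- Killing the Fitting ideals of high twists gives flatness with Hilbert polynomial `Φ`. -/
theorem good_quotient {J : Ideal A} {N₀ : ℕ}
    (hbij : ∀ n, N₀ ≤ n → ∀ (K : Type u) [Field K] (φ : A →+* K) (X' : Scheme.{u}) (g : X' ⟶ X)
      (π' : X' ⟶ Spec (CommRingCat.of K)) (h : IsPullback g π' π (Spec.map (CommRingCat.ofHom φ))),
      SecBij φ h (CohB1.tensorMod F (CohB1.tensorPow L n)))
    (hvan : ∀ n, N₀ ≤ n → ∀ (x : Spec (CommRingCat.of A)) (p : ℕ),
      CohIII.fiberRank π (CohB1.tensorMod F (CohB1.tensorPow L n)) (p + 1) x = 0)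
    (hle : ∀ n, N₀ ≤ n → ∀ x, PerfAux.eulerChar π (CohB1.tensorMod F (CohB1.tensorPow L n)) x ≤ z n)
    (hJ : ∀ n, N₀ ≤ n → ∀ k, k < (z n).toNat → fitIdeal π F L n k ≤ J) :
    Good π F L Φ (Spec.map (CommRingCat.ofHom (Ideal.Quotient.mk J))) := by
  classical
  haveI : IsLocallyNoetherian X := LocallyOfFiniteType.isLocallyNoetherian π
  have hLi := (AmpleX.isAmple_iff.1 hL).1
  let G : ℕ → X.Modules := fun n => CohB1.tensorMod F (CohB1.tensorPow L n)
  have hG : ∀ n, CohB1.IsFP (G n) := fun n =>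
    HilbSnap.isFP_tensor_invertible (QCoh.isCoh_iff_isFP.1 hF) (H23.PicMul.isInvertible_tensorPow hLi n)
  let σ := Spec.map (CommRingCat.ofHom (Ideal.Quotient.mk J))
  let P := pullback π σ
  let i : P ⟶ X := pullback.fst π σ
  let q : P ⟶ Spec (CommRingCat.of (A ⧸ J)) := pullback.snd π σ
  have sq : IsPullback i q π σ := IsPullback.of_hasPullback π σ
  obtain ⟨N₁, hN₁⟩ := exists_secBij_closed sq hL hF
  letI : X.Over (Spec (CommRingCat.of A)) := ⟨π⟩
  letI : P.Over (Spec (CommRingCat.of (A ⧸ J))) := ⟨q⟩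
  haveI : IsProper q := inferInstanceAs (IsProper (pullback.snd π σ))
  haveI : IsProper (P ↘ Spec (CommRingCat.of (A ⧸ J))) := ‹IsProper q›
  haveI : CompactSpace P := AmpleVan.compactSpace_of_proper (A := A ⧸ J)
  haveI := AmpleVan.isSeparated_of_proper (X := P) (A := A ⧸ J)
  have hflat : FlatMod.IsFlatOver (P ↘ Spec (CommRingCat.of (A ⧸ J))) ((Scheme.Modules.pullback i).obj F) := by
    refine HilbSnap.isFlatOver_of_flat_HH (L := (Scheme.Modules.pullback i).obj L)
      (HilbSnap.isAmple_of_affine_square sq hL) (QCoh.isQCoh_pullback i hF.1) (max N₀ N₁) fun n hn => ?_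
    have hn₀ := le_of_max_le_left hn
    letI := (Ideal.Quotient.mk J).toAlgebra
    letI := QCoh.secModule (Coh.toGlobal π) (G n) (⊤ : X.Opens)
    letI := QCoh.secModule (Coh.toGlobal q) ((Scheme.Modules.pullback i).obj (G n)) (⊤ : P.Opens)
    haveI := finite_sections π (QCoh.isCoh_iff_isFP.2 (hG n))
    let e := LinearEquiv.ofBijective _ (hN₁ n (le_of_max_le_right hn))
    haveI : Module.Finite (A ⧸ J) Γ((Scheme.Modules.pullback i).obj (G n), (⊤ : P.Opens)) := Module.Finite.equiv e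
    have hfit : ∀ k, Fitt.ideal (A ⧸ J) Γ((Scheme.Modules.pullback i).obj (G n), (⊤ : P.Opens)) k =
        (fitIdeal π F L n k).map (Ideal.Quotient.mk J) := fun k => by
      rw [← FittX.ideal_congr e, FittX.ideal_baseChange (TensorProduct.isBaseChange A Γ(G n, (⊤ : X.Opens)) (A ⧸ J))]
      rfl
    haveI : Module.Flat (A ⧸ J) Γ((Scheme.Modules.pullback i).obj (G n), (⊤ : P.Opens)) := by
      refine flat_of_fitting (r := (z n).toNat) (fun k hk => ?_) fun p hp hle' => ?_
      · rw [hfit, Ideal.map_eq_bot_iff_le_ker, Ideal.mk_ker]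
        exact hJ n hn₀ k hk
      · rw [hfit, Ideal.map_le_iff_le_comap] at hle'
        let x : Spec (CommRingCat.of A) := ⟨p.comap (Ideal.Quotient.mk J), inferInstance⟩
        exact (eulerChar_le_iff π (hG n) x (hvan n hn₀ x) (fun h => hbij n hn₀ _ _ _ _ _ h)
          (finite_sections π (QCoh.isCoh_iff_isFP.2 (hG n))) _).2
          ((hle n hn₀ x).trans (Int.self_le_toNat _)) hle'
    obtain ⟨e₁⟩ := H23.PicMul.pull i F (CohB1.tensorPow L n)
    obtain ⟨e₂⟩ := HilbSnap.pullback_tensorPow i L n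
    haveI : Module.Flat (A ⧸ J) (Coh.HH P ((Scheme.Modules.pullback i).obj (G n)) 0) :=
      Module.Flat.of_linearEquiv (QCoh.secH (Coh.toGlobal q) _).symm
    exact Module.Flat.of_linearEquiv (QCoh.HHcongr (Coh.toGlobal q)
      (e₁ ≪≫ PicGrp.tensorModIso (Iso.refl _) e₂) 0).symm
  refine ⟨hflat, fun t n => ?_⟩
  obtain ⟨Q, hQ⟩ := exists_poly_eulerChar π hLi (QCoh.isCoh_iff_isFP.1 hF) (σ t)
  have hQΦ : Q = Φ := eq_of_eventually_eval_eq N₀ fun m hm => by
    rw [← hQ m, hz m, Int.cast_inj]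
    refine le_antisymm (hle m hm _) ?_
    by_contra hlt
    push Not at hlt
    let χ := PerfAux.eulerChar π (CohB1.tensorMod F (CohB1.tensorPow L m)) (σ t)
    have h0 : 0 ≤ χ := by
      show 0 ≤ PerfAux.eulerChar π _ _
      rw [HilbSnap.eulerChar_eq_betti_zero π _ (σ t) fun p =>
        HilbSnap.subsingleton_fiberH_of_rank π (hG m) (p + 1) (σ t) (hvan m hm (σ t) p)]
      exact Int.natCast_nonneg _
    have hk : χ.toNat < (z m).toNat := by
      have : χ < z m := hlt
      omega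
    refine (eulerChar_le_iff π (hG m) (σ t) (hvan m hm _) (fun h => hbij m hm _ _ _ _ _ h)
      (finite_sections π (QCoh.isCoh_iff_isFP.2 (hG m))) χ.toNat).2 (Int.self_le_toNat _)
      ((hJ m hm _ hk).trans ?_)
    show J ≤ t.asIdeal.comap (Ideal.Quotient.mk J)
    exact fun a ha => by
      rw [Ideal.mem_comap, Ideal.Quotient.eq_zero_iff_mem.2 ha]
      exact zero_mem _
  rw [← hQΦ]
  exact hQ n

end Main

/-- Over a Noetherian affine base on which no Hilbert polynomial exceeds `Φ` the stratum of `Φ` is cut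
out by an ideal. -/
theorem exists_ideal_core [IsNoetherianRing A] (π : X ⟶ Spec (CommRingCat.of A)) [IsProper π] {L : X.Modules}
    (hL : CohB1.IsAmple L) {F : X.Modules} (hF : Coh.IsCoh F) (Φ : Polynomial ℚ)
    (hbad : ∀ x : Spec (CommRingCat.of A), ¬ ∃ N : ℕ, ∀ n : ℕ, N ≤ n → Φ.eval (n : ℚ) + 1 ≤
      (PerfAux.eulerChar π (CohB1.tensorMod F (CohB1.tensorPow L n)) x : ℚ)) :
    ∃ J : Ideal A, ∀ (B : Type u) [CommRing B] (φ : A →+* B),
      Good π F L Φ (Spec.map (CommRingCat.ofHom φ)) ↔ J ≤ RingHom.ker φ := by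
  by_cases hint : ∀ n : ℕ, ∃ z : ℤ, Φ.eval (n : ℚ) = (z : ℚ)
  swap
  · push Not at hint
    obtain ⟨n₀, hn₀⟩ := hint
    exact ⟨⊤, fun B _ φ => good_iff_of_not_int π F L Φ hn₀ φ⟩
  choose z hz using hint
  haveI : IsLocallyNoetherian X := LocallyOfFiniteType.isLocallyNoetherian π
  have hLi := (AmpleX.isAmple_iff.1 hL).1
  obtain ⟨N₁, hN₁⟩ := exists_uniform_secBij π hL hF
  obtain ⟨N₂, hN₂⟩ := HilbSnap.exists_uniform_fiber_vanishing π hLi ((S4381.result π L).2 hL) hF
  obtain ⟨N₃, hN₃⟩ := exists_uniform_le π hL hF Φ z hz hbad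
  let N := max N₁ (max N₂ N₃)
  have hb : ∀ n, N ≤ n → N₁ ≤ n ∧ N₂ ≤ n ∧ N₃ ≤ n := fun n hn => by omega
  let J : Ideal A := ⨆ (n : ℕ) (_ : N ≤ n) (k : ℕ) (_ : k < (z n).toNat), fitIdeal π F L n k
  refine ⟨J, fun B _ φ => ⟨fun h => ?_, fun h => ?_⟩⟩
  · exact iSup_le fun n => iSup_le fun hn => iSup_le fun k => iSup_le fun hk =>
      fitIdeal_le_ker_of_good π hL hF Φ z hz (fun K _ => hN₁ n (hb n hn).1 K) (hN₂ n (hb n hn).2.1) h hk
  · have hmk := good_quotient π hL hF Φ z hz (J := J) (N₀ := N) (fun n hn => hN₁ n (hb n hn).1)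
      (fun n hn => hN₂ n (hb n hn).2.1) (fun n hn => hN₃ n (hb n hn).2.2)
      fun n hn k hk => le_iSup₂_of_le n hn (le_iSup₂_of_le k hk le_rfl)
    have hfac : φ = (Ideal.Quotient.lift J φ fun a ha => RingHom.mem_ker.1 (h ha)).comp (Ideal.Quotient.mk J) :=
      RingHom.ext fun _ => rfl
    rw [hfac, CommRingCat.ofHom_comp, Spec.map_comp]
    exact hmk.comp _

end Groth.Agent.HilbStrat

end
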