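import Groth.Agent.FittX.Free
import Groth.Agent.AzumayaX.Fibres
import Mathlib.RingTheory.Flat.Localization
import Mathlib.RingTheory.IsTensorProduct

/-!
# Fitting ideals and fibre dimensions; base change of comparison maps; Noetherian induction on primes
-/

set_option autoImplicit false
set_option linter.style.haveILetI false

universe u

open TensorProduct

namespace Groth.Agent.HilbStrat

open Groth.Agent

section Fitting

variable {R : Type u} [CommRing R] {M : Type u} [AddCommGroup M] [Module R M] [Module.Finite R M]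

/-- Fitting ideals bound the dimension of the fibre at any field valued point. -/
theorem not_le_ker_iff_finrank {K : Type u} [Field K] [Algebra R K] (k : ℕ) :
    ¬ Fitt.ideal R M k ≤ RingHom.ker (algebraMap R K) ↔ Module.finrank K (K ⊗[R] M) ≤ k := by
  have h := FittX.ideal_baseChange (TensorProduct.isBaseChange R M K) k
  let b := Module.finBasis K (K ⊗[R] M)
  have hker : (Fitt.ideal R M k).map (algebraMap R K) = ⊥ ↔ Fitt.ideal R M k ≤ RingHom.ker (algebraMap R K) :=
    Ideal.map_eq_bot_iff_le_ker _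
  constructor
  · intro hle
    by_contra hcon
    rw [FittX.ideal_eq_bot_of_free _ k _ b (by omega)] at h
    exact hle (hker.1 h.symm)
  · intro hk hle
    rw [FittX.ideal_eq_top_of_gen b b.span_eq hk, hker.2 hle] at h
    exact top_ne_bot h

/-- A finite flat module of constant rank has vanishing lower Fitting ideals. -/
theorem ideal_eq_bot_of_flat [Module.Flat R M] {r : ℕ}
    (h : ∀ (p : Ideal R) [p.IsPrime], Module.finrank p.ResidueField (p.ResidueField ⊗[R] M) = r) {k : ℕ}
    (hk : k < r) : Fitt.ideal R M k = ⊥ := by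
  refine ideal_eq_bot_of_localization' _ fun p hp => ?_
  haveI := hp.isPrime
  let L := Localization.AtPrime p
  haveI : Module.Free L (L ⊗[R] M) := Module.free_of_flat_of_isLocalRing
  let b := Module.finBasis L (L ⊗[R] M)
  have hL := fun j => FittX.ideal_baseChange (TensorProduct.isBaseChange R M L) j
  have hr : ¬ Fitt.ideal R M (Module.finrank L (L ⊗[R] M)) ≤ p := fun hle => by
    have h1 := hL (Module.finrank L (L ⊗[R] M))
    rw [FittX.ideal_eq_top_of_gen b b.span_eq le_rfl] at h1
    have h2 := Ideal.map_mono (f := algebraMap R L) hle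
    rw [← h1, top_le_iff] at h2
    exact (IsLocalRing.maximalIdeal.isMaximal L).ne_top (Localization.AtPrime.map_eq_maximalIdeal.symm.trans h2)
  have hrn : r ≤ Module.finrank L (L ⊗[R] M) := by
    rw [← h p]
    refine (not_le_ker_iff_finrank (K := p.ResidueField) _).1 ?_
    rw [Ideal.ker_algebraMap_residueField]
    exact hr
  exact (hL k).symm.trans (FittX.ideal_eq_bot_of_free _ k _ b (hk.trans_le hrn))

/-- Vanishing lower Fitting ideals and small fibres give flatness. -/
theorem flat_of_fitting {r : ℕ} (h0 : ∀ k, k < r → Fitt.ideal R M k = ⊥)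
    (h1 : ∀ (p : Ideal R) [p.IsPrime], ¬ Fitt.ideal R M r ≤ p) : Module.Flat R M := by
  have htop : ∀ k, r ≤ k → Fitt.ideal R M k = ⊤ := fun k hk => by
    by_contra hne
    obtain ⟨m, hm, hle⟩ := Ideal.exists_le_maximal _ hne
    exact h1 m ((FittX.ideal_mono hk).trans hle)
  have hloc := (FittX.locallyFree_iff (M := M) r).2 ⟨h0, htop⟩
  choose f hf hfree _ using hloc
  refine Module.flat_of_localized_span R M (Set.range fun p : MaximalSpectrum R =>
    haveI := p.isMaximal.isPrime; f p.asIdeal) ?_ fun g => ?_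
  · by_contra hne
    obtain ⟨m, hm, hle⟩ := Ideal.exists_le_maximal _ hne
    haveI := hm.isPrime
    exact hf m (hle (Ideal.subset_span ⟨⟨m, hm⟩, rfl⟩))
  · obtain ⟨g, p, rfl⟩ := g
    haveI := p.isMaximal.isPrime
    haveI := hfree p.asIdeal
    exact Module.Flat.trans R (Localization.Away (f p.asIdeal)) _

end Fitting

section BaseChange

variable {A B C : Type u} [CommRing A] [CommRing B] [CommRing C] [Algebra A B] [Algebra B C] [Algebra A C]
  [IsScalarTower A B C] {M M₁ M₂ M₃ : Type u} [AddCommGroup M] [Module A M] [AddCommGroup M₁] [Module B M₁]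
  [AddCommGroup M₂] [Module C M₂] [AddCommGroup M₃] [Module C M₃]

/-- Transitivity of comparison maps of base change. -/
theorem bijective_iff_of_comp (L₁ : B ⊗[A] M →ₗ[B] M₁) (L₂ : C ⊗[B] M₁ →ₗ[C] M₂) (L : C ⊗[A] M →ₗ[C] M₃)
    (θ : M₂ ≃ₗ[C] M₃) (h : ∀ m : M, L (1 ⊗ₜ[A] m) = θ (L₂ (1 ⊗ₜ[B] L₁ (1 ⊗ₜ[A] m))))
    (h₂ : Function.Bijective L₂) : Function.Bijective L ↔ Function.Bijective (L₁.baseChange C) := by
  let e := AlgebraTensorModule.cancelBaseChange A B C C M
  have he : ∀ t, L (e t) = θ (L₂ (L₁.baseChange C t)) := by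
    intro t
    induction t using TensorProduct.induction_on with
    | zero => simp
    | add a b ha hb => simp only [map_add, ha, hb]
    | tmul c z =>
      induction z using TensorProduct.induction_on with
      | zero => simp
      | add a b ha hb => simp only [TensorProduct.tmul_add, map_add, ha, hb]
      | tmul b m =>
        have e1 : e (c ⊗ₜ[B] (b ⊗ₜ[A] m)) = (b • c) • ((1 : C) ⊗ₜ[A] m) := by
          simp [e, TensorProduct.smul_tmul', smul_eq_mul]
        have e2 : L₁.baseChange C (c ⊗ₜ[B] (b ⊗ₜ[A] m)) = (b • c) • ((1 : C) ⊗ₜ[B] L₁ (1 ⊗ₜ[A] m)) := by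
          rw [LinearMap.baseChange_tmul, TensorProduct.smul_tmul', smul_eq_mul, mul_one,
            TensorProduct.smul_tmul, ← map_smul, TensorProduct.smul_tmul', smul_eq_mul, mul_one]
        rw [e1, e2, map_smul, map_smul, map_smul, h]
  have hcomp : ⇑L ∘ ⇑e = (⇑θ ∘ ⇑L₂) ∘ ⇑(L₁.baseChange C) := funext he
  rw [← Function.Bijective.of_comp_iff' (θ.bijective.comp h₂) (L₁.baseChange C), ← hcomp,
    Function.Bijective.of_comp_iff _ e.bijective]

/-- Comparison maps compose. -/
theorem bijective_of_comp (L₁ : B ⊗[A] M →ₗ[B] M₁) (L₂ : C ⊗[B] M₁ →ₗ[C] M₂) (L : C ⊗[A] M →ₗ[C] M₃)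
    (θ : M₂ ≃ₗ[C] M₃) (h : ∀ m : M, L (1 ⊗ₜ[A] m) = θ (L₂ (1 ⊗ₜ[B] L₁ (1 ⊗ₜ[A] m))))
    (h₁ : Function.Bijective L₁) (h₂ : Function.Bijective L₂) : Function.Bijective L :=
  (bijective_iff_of_comp L₁ L₂ L θ h h₂).2 ((LinearEquiv.ofBijective L₁ h₁).baseChange B C _ _).bijective

end BaseChange

/-- Uniformity over the primes of a Noetherian ring by Noetherian induction. -/
theorem exists_nat_forall_prime {A : Type u} [CommRing A] [IsNoetherianRing A] (Q : ℕ → Ideal A → Prop)
    (hQ : ∀ {N N' : ℕ} {p : Ideal A}, N ≤ N' → Q N p → Q N' p)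
    (h : ∀ q : Ideal A, q.IsPrime → ∃ (a : A) (N : ℕ), a ∉ q ∧
      ∀ p : Ideal A, p.IsPrime → q ≤ p → a ∉ p → Q N p) :
    ∃ N, ∀ p : Ideal A, p.IsPrime → Q N p := by
  suffices H : ∀ I : Ideal A, ∃ N, ∀ p : Ideal A, p.IsPrime → I ≤ p → Q N p by
    obtain ⟨N, hN⟩ := H ⊥
    exact ⟨N, fun p hp => hN p hp bot_le⟩
  intro I
  induction I using WellFoundedGT.induction with
  | _ I ih =>
    by_cases hI : I.IsPrime
    · obtain ⟨a, N, ha, hN⟩ := h I hI
      obtain ⟨N', hN'⟩ := ih (I ⊔ Ideal.span {a}) (lt_of_le_of_ne le_sup_left fun he => ha (by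
        rw [he]; exact Ideal.mem_sup_right (Ideal.mem_span_singleton_self a)))
      refine ⟨max N N', fun p hp hIp => ?_⟩
      by_cases hap : a ∈ p
      · exact hQ (le_max_right _ _) (hN' p hp (sup_le hIp ((Ideal.span_singleton_le_iff_mem _).2 hap)))
      · exact hQ (le_max_left _ _) (hN p hp hIp hap)
    · by_cases htop : I = ⊤
      · exact ⟨0, fun p hp hIp => absurd (top_le_iff.1 (htop ▸ hIp)) hp.ne_top⟩
      obtain ⟨x, hx, y, hy, hxy⟩ : ∃ x, x ∉ I ∧ ∃ y, y ∉ I ∧ x * y ∈ I := by
        by_contra hc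
        push Not at hc
        exact hI ⟨htop, fun {x y} hxy => or_iff_not_imp_left.2 fun hx => by_contra fun hy => hc x hx y hy hxy⟩
      have hlt : ∀ z, z ∉ I → I < I ⊔ Ideal.span {z} := fun z hz => lt_of_le_of_ne le_sup_left fun he => hz (by
        rw [he]; exact Ideal.mem_sup_right (Ideal.mem_span_singleton_self z))
      obtain ⟨N, hN⟩ := ih _ (hlt x hx)
      obtain ⟨N', hN'⟩ := ih _ (hlt y hy)
      refine ⟨max N N', fun p hp hIp => ?_⟩
      rcases hp.mem_or_mem (hIp hxy) with hm | hm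
      · exact hQ (le_max_left _ _) (hN p hp (sup_le hIp ((Ideal.span_singleton_le_iff_mem _).2 hm)))
      · exact hQ (le_max_right _ _) (hN' p hp (sup_le hIp ((Ideal.span_singleton_le_iff_mem _).2 hm)))

end Groth.Agent.HilbStrat
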