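import Groth.Agent.HilbStrat.Fitting
import Groth.Agent.PBC.SecBij
import Groth.Agent.ExistEasy.PP.PullSec
import Groth.Agent.GGFF.PicInj

/-!
# Bijectivity of the base change maps of global sections
-/

set_option autoImplicit false
set_option linter.style.haveILetI false
set_option linter.unusedSectionVars false
set_option backward.isDefEq.respectTransparency false
set_option backward.isDefEq.respectTransparency.types false
set_option maxHeartbeats 1000000
set_option synthInstance.maxHeartbeats 400000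

universe u

open CategoryTheory CategoryTheory.Limits AlgebraicGeometry TopologicalSpace Opposite
open scoped TensorProduct

noncomputable section

namespace Groth.Agent.HilbStrat

open Groth.Agent

variable {A B C : Type u} [CommRing A] [CommRing B] [CommRing C]
  {X X' X'' : Scheme.{u}}
  {π : X ⟶ Spec (CommRingCat.of A)} {π' : X' ⟶ Spec (CommRingCat.of B)} {π'' : X'' ⟶ Spec (CommRingCat.of C)}

/-- Global sections commute with the base change along `φ`. -/
def SecBij (φ : A →+* B) {g : X' ⟶ X} (h : IsPullback g π' π (Spec.map (CommRingCat.ofHom φ)))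
    (F : X.Modules) : Prop :=
  letI : X.Over (Spec (CommRingCat.of A)) := ⟨π⟩
  letI : X'.Over (Spec (CommRingCat.of B)) := ⟨π'⟩
  Function.Bijective (PBC.sectionsBC φ g h (F := F))

/-- `SecBij` only depends on the morphisms. -/
theorem SecBij.congr {φ φ₁ : A →+* B} (hφ : φ = φ₁) {g g₁ : X' ⟶ X} (hg : g = g₁)
    {h : IsPullback g π' π (Spec.map (CommRingCat.ofHom φ))}
    (h₁ : IsPullback g₁ π' π (Spec.map (CommRingCat.ofHom φ₁))) {F : X.Modules} (hb : SecBij φ h F) :
    SecBij φ₁ h₁ F := by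
  subst hφ hg
  exact hb

theorem sectionsBC_one_tmul [X.Over (Spec (CommRingCat.of A))] [X'.Over (Spec (CommRingCat.of B))]
    (φ : A →+* B) (g : X' ⟶ X)
    (h : IsPullback g (X' ↘ Spec (CommRingCat.of B)) (X ↘ Spec (CommRingCat.of A))
      (Spec.map (CommRingCat.ofHom φ))) (F : X.Modules) (m : Γ(F, (⊤ : X.Opens))) :
    letI := φ.toAlgebra
    letI := QCoh.secModule (Coh.toGlobal (X ↘ Spec (CommRingCat.of A))) F (⊤ : X.Opens)
    PBC.sectionsBC φ g h (F := F) ((1 : B) ⊗ₜ[A] m) =
      QCoh.pullSec g F (le_top : (⊤ : X'.Opens) ≤ g ⁻¹ᵁ ⊤) m := by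
  refine (GGFF.sectionsBC_tmul φ g h F 1 m).trans ?_
  rw [map_one]
  refine (one_smul _ _).trans ?_
  exact (ConcreteCategory.congr_hom (((Scheme.Modules.pullback g).obj F).presheaf.map_id (op (⊤ : X'.Opens))) _).symm

/-- Comparison maps of a composite square. -/
theorem secBij_comp_iff {φ : A →+* B} {ψ : B →+* C} {χ : A →+* C} (hχ : χ = ψ.comp φ)
    {g : X' ⟶ X} {g' : X'' ⟶ X'} {g'' : X'' ⟶ X} (hg : g' ≫ g = g'')
    (h : IsPullback g π' π (Spec.map (CommRingCat.ofHom φ)))
    (h' : IsPullback g' π'' π' (Spec.map (CommRingCat.ofHom ψ)))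
    (h'' : IsPullback g'' π'' π (Spec.map (CommRingCat.ofHom χ))) {F : X.Modules}
    (hb : SecBij ψ h' ((Scheme.Modules.pullback g).obj F)) :
    SecBij χ h'' F ↔
      (letI : X.Over (Spec (CommRingCat.of A)) := ⟨π⟩
       letI : X'.Over (Spec (CommRingCat.of B)) := ⟨π'⟩
       letI := φ.toAlgebra
       letI := ψ.toAlgebra
       letI := QCoh.secModule (Coh.toGlobal π) F (⊤ : X.Opens)
       letI := QCoh.secModule (Coh.toGlobal π') ((Scheme.Modules.pullback g).obj F) (⊤ : X'.Opens)
       Function.Bijective ((PBC.sectionsBC φ g h (F := F)).baseChange C)) := by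
  subst hg
  letI : X.Over (Spec (CommRingCat.of A)) := ⟨π⟩
  letI : X'.Over (Spec (CommRingCat.of B)) := ⟨π'⟩
  letI : X''.Over (Spec (CommRingCat.of C)) := ⟨π''⟩
  letI := φ.toAlgebra
  letI := ψ.toAlgebra
  letI := χ.toAlgebra
  haveI : IsScalarTower A B C := IsScalarTower.of_algebraMap_eq fun a => congrArg (fun f : A →+* C => f a) hχ
  let ρ'' := Coh.toGlobal π''
  letI := QCoh.secModule (Coh.toGlobal π) F (⊤ : X.Opens)
  letI := QCoh.secModule (Coh.toGlobal π') ((Scheme.Modules.pullback g).obj F) (⊤ : X'.Opens)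
  letI := QCoh.secModule ρ'' ((Scheme.Modules.pullback g').obj ((Scheme.Modules.pullback g).obj F)) (⊤ : X''.Opens)
  letI := QCoh.secModule ρ'' ((Scheme.Modules.pullback (g' ≫ g)).obj F) (⊤ : X''.Opens)
  let e := (Scheme.Modules.pullbackComp g' g).app F
  let θ : Γ((Scheme.Modules.pullback g').obj ((Scheme.Modules.pullback g).obj F), (⊤ : X''.Opens)) ≃ₗ[C]
      Γ((Scheme.Modules.pullback (g' ≫ g)).obj F, (⊤ : X''.Opens)) :=
    { toFun := e.hom.app ⊤
      invFun := e.inv.app ⊤
      left_inv := fun z => by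
        rw [← ConcreteCategory.comp_apply, ← Scheme.Modules.Hom.comp_app, e.hom_inv_id]; rfl
      right_inv := fun z => by
        rw [← ConcreteCategory.comp_apply, ← Scheme.Modules.Hom.comp_app, e.inv_hom_id]; rfl
      map_add' := fun a b => map_add _ _ _
      map_smul' := fun c z => e.hom.app_smul _ z }
  refine bijective_iff_of_comp (PBC.sectionsBC φ g h (F := F))
    (PBC.sectionsBC ψ g' h' (F := (Scheme.Modules.pullback g).obj F))
    (PBC.sectionsBC χ (g' ≫ g) h'' (F := F)) θ (fun m => ?_) hb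
  refine (sectionsBC_one_tmul χ (g' ≫ g) h'' F m).trans ?_
  refine (ExistEasy.pullSec_comp g' g F (U := (⊤ : X'.Opens)) le_top le_top m).symm.trans ?_
  refine congrArg (e.hom.app ⊤) (((sectionsBC_one_tmul ψ g' h' ((Scheme.Modules.pullback g).obj F) _).trans ?_).symm)
  exact congrArg (QCoh.pullSec g' _ le_top) (sectionsBC_one_tmul φ g h F m)

/-- Comparison maps compose. -/
theorem SecBij.comp {φ : A →+* B} {ψ : B →+* C} {χ : A →+* C} (hχ : χ = ψ.comp φ)
    {g : X' ⟶ X} {g' : X'' ⟶ X'} {g'' : X'' ⟶ X} (hg : g' ≫ g = g'')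
    {h : IsPullback g π' π (Spec.map (CommRingCat.ofHom φ))}
    {h' : IsPullback g' π'' π' (Spec.map (CommRingCat.ofHom ψ))}
    (h'' : IsPullback g'' π'' π (Spec.map (CommRingCat.ofHom χ))) {F : X.Modules}
    (hb : SecBij φ h F) (hb' : SecBij ψ h' ((Scheme.Modules.pullback g).obj F)) : SecBij χ h'' F := by
  refine (secBij_comp_iff hχ hg h h' h'' hb').2 ?_
  letI : X.Over (Spec (CommRingCat.of A)) := ⟨π⟩
  letI : X'.Over (Spec (CommRingCat.of B)) := ⟨π'⟩
  letI := φ.toAlgebra
  letI := ψ.toAlgebra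
  letI := QCoh.secModule (Coh.toGlobal π) F (⊤ : X.Opens)
  letI := QCoh.secModule (Coh.toGlobal π') ((Scheme.Modules.pullback g).obj F) (⊤ : X'.Opens)
  exact ((LinearEquiv.ofBijective _ hb).baseChange B C _ _).bijective

/-- An invertible degree zero comparison map gives bijective comparison maps of sections. -/
theorem secBij_of_isIso_bc0 {φ : A →+* B} {g : X' ⟶ X}
    (h : IsPullback g π' π (Spec.map (CommRingCat.ofHom φ))) [QuasiCompact π] [QuasiSeparated π]
    {F : X.Modules} (hF : Coh.IsQCoh F)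
    (hi : IsIso (CohBC.bc0 π (Spec.map (CommRingCat.ofHom φ)) π' g h.w F)) : SecBij φ h F := by
  letI : X.Over (Spec (CommRingCat.of A)) := ⟨π⟩
  letI : X'.Over (Spec (CommRingCat.of B)) := ⟨π'⟩
  haveI : QuasiCompact (X ↘ Spec (CommRingCat.of A)) := ‹QuasiCompact π›
  haveI : QuasiSeparated (X ↘ Spec (CommRingCat.of A)) := ‹QuasiSeparated π›
  exact PBC.bijective_sectionsBC_of_isIso φ g h hF hi

/-- Flat base change of global sections. -/
theorem secBij_of_flat {φ : A →+* B} {g : X' ⟶ X}
    (h : IsPullback g π' π (Spec.map (CommRingCat.ofHom φ))) [QuasiCompact π] [QuasiSeparated π]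
    [Flat (Spec.map (CommRingCat.ofHom φ))] {F : X.Modules} (hF : Coh.IsQCoh F) : SecBij φ h F :=
  secBij_of_isIso_bc0 h hF (CohBC.isIso_bc0 _ _ _ _ h hF)

end Groth.Agent.HilbStrat

end
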