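import Groth.Agent.HilbSnap.HighFibre
import Groth.Agent.HilbStrat.SecBC

/-!
# Sections of high twists on a closed subscheme of the base
-/

set_option autoImplicit false
set_option linter.style.haveILetI false
set_option linter.unusedSectionVars false
set_option backward.isDefEq.respectTransparency false
set_option backward.isDefEq.respectTransparency.types false
set_option maxHeartbeats 1000000
set_option synthInstance.maxHeartbeats 400000

universe u

open CategoryTheory CategoryTheory.Limits AlgebraicGeometry TopologicalSpace Opposite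
open Groth.Agent.PnCoh.Finite (mapLin deltaLin exists_of_deltaLin_eq_zero)
open scoped TensorProduct

noncomputable section

namespace Groth.Agent.HilbStrat

open Groth.Agent Groth.Agent.AmpleVan Groth.Agent.HilbSnap

variable {A : Type u} [CommRing A] {X : Scheme.{u}} [X.Over (Spec (CommRingCat.of A))]

/-- For high twists the unit of a closed immersion is surjective on sections with kernel `J`. -/
theorem exists_high_unit [IsNoetherianRing A] [IsProper (X ↘ Spec (CommRingCat.of A))] {J : Ideal A}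
    {Z : Scheme.{u}} {i : Z ⟶ X} {q : Z ⟶ Spec (CommRingCat.of (A ⧸ J))}
    (sq : IsPullback i q (X ↘ Spec (CommRingCat.of A)) (Spec.map (CommRingCat.ofHom (Ideal.Quotient.mk J))))
    {L : X.Modules} (hL : PicF.IsInvertible L)
    (hvan : ∀ C : X.Modules, Coh.IsCoh C → ∃ N, ∀ n, N ≤ n → ∀ p,
      Subsingleton (Coh.HH X (CohB1.tensorMod C (CohB1.tensorPow L n)) (p + 1)))
    {M : X.Modules} (hM : Coh.IsCoh M) :
    ∃ N, ∀ n, N ≤ n →
      (∀ p, Subsingleton (Coh.HH X (CohB1.tensorMod M (CohB1.tensorPow L n)) (p + 1))) ∧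
      Function.Surjective (mapLin A ((Scheme.Modules.pullbackPushforwardAdjunction i).unit.app
        (CohB1.tensorMod M (CohB1.tensorPow L n))) 0) ∧
      ∀ x, mapLin A ((Scheme.Modules.pullbackPushforwardAdjunction i).unit.app
          (CohB1.tensorMod M (CohB1.tensorPow L n))) 0 x = 0 →
        x ∈ J • (⊤ : Submodule A (Coh.HH X (CohB1.tensorMod M (CohB1.tensorPow L n)) 0)) := by
  classical
  haveI : IsLocallyNoetherian X := LocallyOfFiniteType.isLocallyNoetherian (X ↘ Spec (CommRingCat.of A))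
  haveI : CompactSpace X := QuasiCompact.compactSpace_of_compactSpace (X ↘ Spec (CommRingCat.of A))
  haveI : IsNoetherian X := { __ := ‹IsLocallyNoetherian X›, __ := ‹CompactSpace X› }
  haveI := Abelian.hasFiniteBiproducts (C := X.Modules)
  haveI : IsClosedImmersion (Spec.map (CommRingCat.ofHom (Ideal.Quotient.mk J))) :=
    IsClosedImmersion.spec_of_surjective _ Ideal.Quotient.mk_surjective
  haveI : IsClosedImmersion i := MorphismProperty.of_isPullback sq.flip inferInstance
  obtain ⟨r, a, hJ⟩ := Submodule.fg_iff_exists_fin_generating_family.1 (IsNoetherian.noetherian J)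
  let ι := ULift.{u} (Fin r)
  let b : ι → A := fun j => a j.down
  have hb : ∀ j, b j ∈ J := fun j => hJ ▸ Submodule.subset_span ⟨j.down, rfl⟩
  let φ : (⨁ fun _ : ι => M) ⟶ M := biproduct.desc fun j => Formal.smulMod A M (b j)
  let P := cokernel φ
  let I := kernel (cokernel.π φ)
  let e : (⨁ fun _ : ι => M) ⟶ I := Abelian.factorThruImage φ
  let K := kernel e
  have hB : Coh.IsCoh (⨁ fun _ : ι => M) := QCoh.isCoh_biproduct _ fun _ => hM
  have hP : Coh.IsCoh P := QCoh.isCoh_cokernel hB.1 hM _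
  have hI : Coh.IsCoh I := QCoh.isCoh_of_mono (kernel.ι _) hM (QCoh.isQCoh_kernel hM.1 hP.1 _)
  have hK : Coh.IsCoh K := QCoh.isCoh_of_mono (kernel.ι _) hB (QCoh.isQCoh_kernel hB.1 hI.1 _)
  have hs1 : (ShortComplex.mk (kernel.ι e) e (kernel.condition e)).ShortExact :=
    { exact := ShortComplex.exact_of_f_is_kernel _ (kernelIsKernel e) }
  have hs2 : (ShortComplex.mk (kernel.ι (cokernel.π φ)) (cokernel.π φ) (kernel.condition _)).ShortExact :=
    { exact := ShortComplex.exact_of_f_is_kernel _ (kernelIsKernel _) }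
  obtain ⟨N₁, h₁⟩ := hvan K hK
  obtain ⟨N₂, h₂⟩ := hvan I hI
  obtain ⟨N₃, h₃⟩ := hvan P hP
  obtain ⟨N₄, h₄⟩ := hvan M hM
  refine ⟨N₁ + N₂ + N₃ + N₄, fun n hn => ⟨fun p => h₄ n (by omega) p, ?_⟩⟩
  let Q := CohB1.tensorPow L n
  have hQ : PicF.IsInvertible Q := InvX.isInvertible_tensorPow hL n
  let T := tw Q
  haveI : T.IsEquivalence := isEquivalence_tw hQ
  haveI : T.Additive := Functor.additive_of_preserves_binary_products _
  have ht1 := hs1.map_of_exact T
  have ht2 := hs2.map_of_exact T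
  have hsm : ∀ (M' : X.Modules) (c : A), T.map (Formal.smulMod A M' c) = Formal.smulMod A (T.obj M') c :=
    fun M' c => SheafHomX.ten_map_smulMod Q M' c
  -- `T P` is the reduction of `T M` modulo `J`
  have hbπ : ∀ j, Formal.smulMod A M (b j) ≫ cokernel.π φ = 0 := fun j => by
    have h : Formal.smulMod A M (b j) = biproduct.ι (fun _ : ι => M) j ≫ φ := by simp [φ]
    rw [h, Category.assoc, cokernel.condition, comp_zero]
  have hkill : J ≤ FFun.killIdeal (A := A) (T.obj P) := by
    rw [← hJ, Submodule.span_le]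
    rintro _ ⟨j, rfl⟩
    show Formal.smulMod A (T.obj P) (a j) = 0
    have h0 : Formal.smulMod A P (b ⟨j⟩) = 0 := by
      rw [← cancel_epi (cokernel.π φ), ← FFun.smulMod_naturality, hbπ, comp_zero]
    rw [← hsm P (a j), show Formal.smulMod A P (a j) = 0 from h0, Functor.map_zero]
  let β : FFun.modJ J (T.obj M) ⟶ T.obj P := FFun.descJ (T.map (cokernel.π φ)) hkill
  have hα0 : T.map (kernel.ι (cokernel.π φ)) ≫ FFun.modJπ J (T.obj M) = 0 := by
    have he : e ≫ kernel.ι (cokernel.π φ) = φ := Abelian.image.fac φ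
    rw [← cancel_epi (T.map e), ← Category.assoc, ← T.map_comp, he, comp_zero]
    have hφ : φ = ∑ j : ι, biproduct.π (fun _ : ι => M) j ≫ Formal.smulMod A M (b j) := by
      show biproduct.desc (fun j => Formal.smulMod A M (b j)) = _
      refine biproduct.hom_ext' _ _ fun k => ?_
      rw [biproduct.ι_desc, Preadditive.comp_sum, Finset.sum_eq_single k (fun j _ hj => by
        rw [biproduct.ι_π_ne_assoc _ hj.symm, zero_comp]) (fun h => absurd (Finset.mem_univ k) h),
        biproduct.ι_π_self_assoc]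
    rw [hφ, Functor.map_sum, Preadditive.sum_comp]
    refine Finset.sum_eq_zero fun j _ => ?_
    rw [T.map_comp, hsm, Category.assoc, FFun.smulMod_naturality,
      FFun.mem_killIdeal.1 (FFun.le_killIdeal_modJ J (T.obj M) (hb j)), comp_zero, comp_zero]
  haveI : Epi (T.map (cokernel.π φ)) := ht2.epi_g
  haveI := ht2.epi_g
  let α : T.obj P ⟶ FFun.modJ J (T.obj M) := ht2.exact.desc (FFun.modJπ J (T.obj M)) hα0
  have hα : T.map (cokernel.π φ) ≫ α = FFun.modJπ J (T.obj M) := ht2.exact.g_desc _ hα0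
  have hαβ : α ≫ β = 𝟙 _ := by
    rw [← cancel_epi (T.map (cokernel.π φ)), ← Category.assoc, hα, Category.comp_id]
    exact FFun.π_descJ _ _
  have hβα : β ≫ α = 𝟙 _ := by
    rw [← cancel_epi (FFun.modJπ J (T.obj M)), ← Category.assoc,
      show FFun.modJπ J (T.obj M) ≫ β = T.map (cokernel.π φ) from FFun.π_descJ _ _, hα, Category.comp_id]
  obtain ⟨h0, hiso⟩ := unit_desc_iso sq (M := T.obj M) (isCoh_tensor hM (isCoh_invertible hQ)).1
  haveI := hiso
  let η := (Scheme.Modules.pullbackPushforwardAdjunction i).unit.app (T.obj M)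
  let γ : T.obj P ≅ (Scheme.Modules.pushforward i).obj ((Scheme.Modules.pullback i).obj (T.obj M)) :=
    ⟨α, β, hαβ, hβα⟩ ≪≫ asIso (cokernel.desc (Formal.smulFamily J (T.obj M)) η h0)
  have hγ : T.map (cokernel.π φ) ≫ γ.hom = η := by
    show T.map (cokernel.π φ) ≫ α ≫ cokernel.desc _ η h0 = η
    rw [← Category.assoc, hα]
    exact cokernel.π_desc _ _ _
  refine ⟨?_, fun x hx => ?_⟩
  · intro y
    have hδ : Subsingleton (Coh.HH X (T.obj I) 1) := h₂ n (by omega) 0
    obtain ⟨x, hx⟩ := exists_of_deltaLin_eq_zero A ht2 0 (x := mapLin A γ.inv 0 y) (hδ.elim _ _)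
    refine ⟨x, ?_⟩
    refine (FFun.mapLin_congr hγ.symm 0 x).trans ((FFun.mapLin_comp (T.map (cokernel.π φ)) γ.hom 0 x).symm.trans ?_)
    refine (congrArg (mapLin A γ.hom 0) hx).trans ?_
    rw [FFun.mapLin_comp, FFun.mapLin_congr γ.inv_hom_id]
    show Sheaf.H.map ((QCoh.toAbFunctor X).map (𝟙 _)) 0 y = y
    rw [CategoryTheory.Functor.map_id, Sheaf.H.map_id_apply]
  · have hx0 : mapLin A (T.map (cokernel.π φ)) 0 x = 0 := by
      have : T.map (cokernel.π φ) = η ≫ γ.inv := by rw [← hγ, Category.assoc, γ.hom_inv_id, Category.comp_id]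
      refine (FFun.mapLin_congr this 0 x).trans ((FFun.mapLin_comp η γ.inv 0 x).symm.trans ?_)
      exact (congrArg (mapLin A γ.inv 0) hx).trans (map_zero _)
    obtain ⟨y, hy⟩ : ∃ y, mapLin A (T.map (kernel.ι (cokernel.π φ))) 0 y = x := by
      exact mapLin_exact_mid ht2 0 x hx0
    have hδ : Subsingleton (Coh.HH X (T.obj K) 1) := h₁ n (by omega) 0
    obtain ⟨w, hw⟩ := exists_of_deltaLin_eq_zero A ht1 0 (x := y) (hδ.elim _ _)
    have he : e ≫ kernel.ι (cokernel.π φ) = φ := Abelian.image.fac φ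
    have hxw : mapLin A (T.map φ) 0 w = x := by
      rw [← hy, ← hw]
      exact ((FFun.mapLin_congr ((congrArg T.map he.symm).trans (T.map_comp _ _)) 0 w).trans
        (FFun.mapLin_comp _ _ 0 w).symm)
    have hφ : φ = ∑ j : ι, biproduct.π (fun _ : ι => M) j ≫ Formal.smulMod A M (b j) := by
      show biproduct.desc (fun j => Formal.smulMod A M (b j)) = _
      refine biproduct.hom_ext' _ _ fun k => ?_
      rw [biproduct.ι_desc, Preadditive.comp_sum, Finset.sum_eq_single k (fun j _ hj => by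
        rw [biproduct.ι_π_ne_assoc _ hj.symm, zero_comp]) (fun h => absurd (Finset.mem_univ k) h),
        biproduct.ι_π_self_assoc]
    rw [← hxw, hφ, FFun.mapLin_congr (T.map_sum _ _), mapLin_sum]
    refine Submodule.sum_mem _ fun j _ => ?_
    rw [FFun.mapLin_congr (T.map_comp _ _), ← FFun.mapLin_comp, FFun.mapLin_congr (hsm M (b j)), FFun.mapLin_smulMod]
    exact Submodule.smul_mem_smul (hb j) trivial

/-- For high twists sections commute with the restriction to a closed subscheme of the base. -/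
theorem exists_secBij_closed {A : Type u} [CommRing A] [IsNoetherianRing A] {X Z : Scheme.{u}}
    {π : X ⟶ Spec (CommRingCat.of A)} [IsProper π] {J : Ideal A} {i : Z ⟶ X}
    {q : Z ⟶ Spec (CommRingCat.of (A ⧸ J))}
    (sq : IsPullback i q π (Spec.map (CommRingCat.ofHom (Ideal.Quotient.mk J))))
    {L : X.Modules} (hL : CohB1.IsAmple L) {M : X.Modules} (hM : Coh.IsCoh M) :
    ∃ N, ∀ n, N ≤ n → SecBij (Ideal.Quotient.mk J) sq (CohB1.tensorMod M (CohB1.tensorPow L n)) := by
  letI : X.Over (Spec (CommRingCat.of A)) := ⟨π⟩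
  letI : Z.Over (Spec (CommRingCat.of (A ⧸ J))) := ⟨q⟩
  haveI : IsProper (X ↘ Spec (CommRingCat.of A)) := ‹IsProper π›
  obtain ⟨N, hN⟩ := exists_high_unit (A := A) sq (AmpleX.isAmple_iff.1 hL).1 (fun C hC => by
    obtain ⟨d, hd⟩ := AmpleVan.exists_vanishing (A := A) hL hC
    exact ⟨d, hd⟩) hM
  refine ⟨N, fun n hn => ?_⟩
  obtain ⟨-, hsurj, hker⟩ := hN n hn
  let G := CohB1.tensorMod M (CohB1.tensorPow L n)
  let φ := Ideal.Quotient.mk J
  let η := (Scheme.Modules.pullbackPushforwardAdjunction i).unit.app G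
  letI := φ.toAlgebra
  letI := QCoh.secModule (Coh.toGlobal π) G (⊤ : X.Opens)
  letI := QCoh.secModule (Coh.toGlobal q) ((Scheme.Modules.pullback i).obj G) (⊤ : Z.Opens)
  let e := QCoh.secH (Coh.toGlobal π) G
  let L₁ := PBC.sectionsBC φ i sq (F := G)
  have hnat : ∀ x : Coh.HH X G 0, η.app ⊤ (e.symm x) =
      Sheaf.H.equiv₀ (Coh.toAb ((Scheme.Modules.pushforward i).obj ((Scheme.Modules.pullback i).obj G)))
        isTerminalTop (mapLin A η 0 x) := fun x =>
    Sheaf.H.equiv₀_naturality isTerminalTop ((QCoh.toAbFunctor X).map η) x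
  have h1 : ∀ m, L₁ ((1 : A ⧸ J) ⊗ₜ[A] m) = η.app ⊤ m := fun m => by
    refine (sectionsBC_one_tmul φ i sq G m).trans ?_
    exact ConcreteCategory.congr_hom (((Scheme.Modules.pullback i).obj G).presheaf.map_id (op (⊤ : Z.Opens))) _
  have hgen : ∀ t : (A ⧸ J) ⊗[A] Γ(G, (⊤ : X.Opens)), ∃ m, (1 : A ⧸ J) ⊗ₜ[A] m = t := fun t => by
    induction t using TensorProduct.induction_on with
    | zero => exact ⟨0, TensorProduct.tmul_zero _ _⟩
    | add a b ha hb =>
      obtain ⟨x, rfl⟩ := ha
      obtain ⟨y, rfl⟩ := hb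
      exact ⟨x + y, TensorProduct.tmul_add _ _ _⟩
    | tmul c m =>
      obtain ⟨a, rfl⟩ := Ideal.Quotient.mk_surjective c
      exact ⟨a • m, by rw [← TensorProduct.smul_tmul, Algebra.smul_def, mul_one]; rfl⟩
  refine ⟨(injective_iff_map_eq_zero L₁).2 fun t ht => ?_, fun y => ?_⟩
  · obtain ⟨m, rfl⟩ := hgen t
    obtain ⟨x, rfl⟩ := e.symm.surjective m
    have hη : η.app ⊤ (e.symm x) = 0 := (h1 _).symm.trans ht
    have hx0 : mapLin A η 0 x = 0 :=
      (AddEquiv.map_eq_zero_iff _).1 ((hnat x).symm.trans hη)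
    refine Submodule.smul_induction_on (p := fun x => (1 : A ⧸ J) ⊗ₜ[A] e.symm x = 0) (hker x hx0)
      (fun a ha y _ => ?_) fun a b ha hb => ?_
    · have ha0 : a • (1 : A ⧸ J) = 0 := by
        rw [Algebra.smul_def, mul_one]
        exact Ideal.Quotient.eq_zero_iff_mem.2 ha
      refine (congrArg ((1 : A ⧸ J) ⊗ₜ[A] ·) (e.symm.map_smul a y)).trans ?_
      rw [← TensorProduct.smul_tmul, ha0, TensorProduct.zero_tmul]
    · refine (congrArg ((1 : A ⧸ J) ⊗ₜ[A] ·) (map_add e.symm a b)).trans ?_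
      rw [TensorProduct.tmul_add, ha, hb, add_zero]
  · obtain ⟨x, hx⟩ := hsurj ((Sheaf.H.equiv₀ (Coh.toAb ((Scheme.Modules.pushforward i).obj
      ((Scheme.Modules.pullback i).obj G))) isTerminalTop).symm y)
    refine ⟨(1 : A ⧸ J) ⊗ₜ[A] e.symm x, ((h1 _).trans (hnat x)).trans ?_⟩
    rw [hx]
    exact AddEquiv.apply_symm_apply _ _

end Groth.Agent.HilbStrat

end
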