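import Groth.Agent.HilbStrat.Core
import Groth.Agent.HilbStrat.Glue
import Groth.Agent.HilbSnap.GeClosed
import Groth.Agent.FibAmple.Nhd
import Groth.Agent.IsoNatLib.TrivLocus
import Groth.Agent.QCoh.RpushModel
import Groth.Agent.S2332

/-!
# The stratum with given Hilbert polynomial, locally on the base
-/

set_option autoImplicit false
set_option linter.style.haveILetI false
set_option linter.unusedSectionVars false
set_option backward.isDefEq.respectTransparency false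
set_option backward.isDefEq.respectTransparency.types false
set_option maxHeartbeats 1000000
set_option synthInstance.maxHeartbeats 400000

universe u

open CategoryTheory CategoryTheory.Limits AlgebraicGeometry TopologicalSpace Opposite Topology

noncomputable section

namespace Groth.Agent.HilbStrat

open Groth.Agent

variable {X S : Scheme.{u}}

/-- The points whose Hilbert polynomial is at least `Φ + 1`. -/
def badSet (f : X ⟶ S) (F L : X.Modules) (Φ : Polynomial ℚ) : Set S :=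
  {s | ∃ N : ℕ, ∀ n : ℕ, N ≤ n →
    (Φ + 1).eval (n : ℚ) ≤ (PerfAux.eulerChar f (CohB1.tensorMod F (CohB1.tensorPow L n)) s : ℚ)}

/-- The points with Hilbert polynomial `Φ`. -/
def stratum (f : X ⟶ S) (F L : X.Modules) (Φ : Polynomial ℚ) : Set S :=
  {s | ∀ n : ℕ, (PerfAux.eulerChar f (CohB1.tensorMod F (CohB1.tensorPow L n)) s : ℚ) = Φ.eval (n : ℚ)}

theorem notMem_badSet_of_mem_stratum {f : X ⟶ S} {F L : X.Modules} {Φ : Polynomial ℚ} {s : S}
    (hs : s ∈ stratum f F L Φ) : s ∉ badSet f F L Φ := fun ⟨N, hN⟩ => by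
  have h := hN N le_rfl
  rw [hs N, Polynomial.eval_add, Polynomial.eval_one] at h
  linarith

/-- The condition only depends on the modules up to isomorphism. -/
theorem good_congr_iff {f : X ⟶ S} {F L F' L' : X.Modules} {Φ : Polynomial ℚ} (eF : F ≅ F') (eL : L ≅ L')
    {T : Scheme.{u}} (g : T ⟶ S) : Good f F L Φ g ↔ Good f F' L' Φ g :=
  ⟨fun h => h.congr eF eL, fun h => h.congr eF.symm eL.symm⟩

/-- A model over a Noetherian affine base of the family over an affine open. -/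
structure Chart (f : X ⟶ S) (F L : X.Modules) {U : Scheme.{u}} (j : U ⟶ S) where
  S₁ : Scheme.{u}
  X₁ : Scheme.{u}
  ρ : U ⟶ S₁
  f₁ : X₁ ⟶ S₁
  F₁ : X₁.Modules
  L₁ : X₁.Modules
  noeth : IsNoetherian S₁
  affine : IsAffine S₁
  proper : IsProper f₁
  coh : Coh.IsCoh F₁
  inv : PicF.IsInvertible L₁
  amp : ∀ u : U, CohB1.IsAmple ((Scheme.Modules.pullback (f₁.fiberι (ρ u))).obj L₁)
  chi : ∀ (n : ℕ) (u : U), PerfAux.eulerChar f (CohB1.tensorMod F (CohB1.tensorPow L n)) (j u) =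
    PerfAux.eulerChar f₁ (CohB1.tensorMod F₁ (CohB1.tensorPow L₁ n)) (ρ u)
  good : ∀ (Φ : Polynomial ℚ) {T : Scheme.{u}} (g : T ⟶ U),
    Good f F L Φ (g ≫ j) ↔ Good f₁ F₁ L₁ Φ (g ≫ ρ)

/-- Charts exist. -/
theorem exists_chart (f : X ⟶ S) [IsProper f] [LocallyOfFinitePresentation f] {L : X.Modules}
    (hL : RelAmple.IsRelAmple f L) {F : X.Modules} (hF : CohB1.IsFP F) {U : Scheme.{u}} [IsAffine U] (j : U ⟶ S) :
    Nonempty (Chart f F L j) := by
  let f' := pullback.snd f j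
  let q := pullback.fst f j
  have hLi := AmpleX.isInvertible_of_isRelAmple hL
  have hq := QCoh.isQCoh_of_isFP hF
  have sq : IsPullback q f' f j := IsPullback.of_hasPullback f j
  have hF' : CohB1.IsFP ((Scheme.Modules.pullback q).obj F) := ModStLib.isFP_pullback q hF
  have hL' : PicF.IsInvertible ((Scheme.Modules.pullback q).obj L) := PicClLib.isInvertible_pullback q hLi
  have ha : CohB1.IsAmple ((Scheme.Modules.pullback q).obj L) :=
    (S4381.result f' _).1 (S2332.result f j L hL)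
  obtain ⟨S₁, X₁, ρ, f₁, q₁, F₁, L₁, hn, haff, hp, sq₁, hF₁, hL₁, ⟨θF⟩, ⟨θL⟩⟩ :=
    HilbSnap.exists_pair_model f' _ hF' _ hL'
  refine ⟨⟨S₁, X₁, ρ, f₁, F₁, L₁, hn, haff, hp, hF₁, hL₁, fun u => ?_, fun n u => ?_, fun Φ T g => ?_⟩⟩
  · exact (HilbSnap.isAmple_fiber_iff sq₁ hL₁ u).2
      (AmpleX.isAmple_of_iso ((Scheme.Modules.pullback (f'.fiberι u)).mapIso θL.symm)
        (HilbSnap.isAmple_fiber ha u))
  · obtain ⟨b⟩ : Nonempty (CohB1.tensorPow ((Scheme.Modules.pullback q₁).obj L₁) n ≅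
        CohB1.tensorPow ((Scheme.Modules.pullback q).obj L) n) := H23.PicMul.cl_eq_iff.1 (by
      rw [H23.PicMul.cl_tensorPow, H23.PicMul.cl_tensorPow, H23.PicMul.cl_eq_iff.2 ⟨θL⟩])
    exact (HilbSnap.eulerChar_twist_bc sq hq hLi n u).symm.trans
      ((HilbSnap.eulerChar_congr f' (PicGrp.tensorModIso θF b) u).symm.trans
        (HilbSnap.eulerChar_twist_bc sq₁ hF₁.1 hL₁ n u))
  · exact (good_bc_iff sq hq hLi g).symm.trans
      ((good_congr_iff θF.symm θL.symm g).trans (good_bc_iff sq₁ hF₁.1 hL₁ g))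

/-- Near a point outside the bad set the stratum is cut out by a finitely generated ideal. -/
theorem exists_local_rep (f : X ⟶ S) [IsProper f] [LocallyOfFinitePresentation f] {L : X.Modules}
    (hL : RelAmple.IsRelAmple f L) {F : X.Modules} (hF : CohB1.IsFP F) (Φ : Polynomial ℚ) (O : S.Opens)
    (hO : ∀ s ∈ O, s ∉ badSet f F L Φ) (x : O.toScheme) :
    ∃ V : O.toScheme.affineOpens, x ∈ V.1 ∧ ∃ J : Ideal Γ(O.toScheme, V.1), J.FG ∧
      Rep (fun T (g : T ⟶ O.toScheme) => Good f F L Φ (g ≫ O.ι)) V J := by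
  obtain ⟨U, hU, hxU, hUO⟩ := exists_isAffineOpen_mem_and_subset (x := O.ι x) (U := O) x.2
  let j := hU.fromSpec
  obtain ⟨c⟩ := exists_chart f hL hF j
  haveI := c.noeth; haveI := c.affine; haveI := c.proper; haveI : IsLocallyNoetherian c.S₁ := inferInstance
  haveI : IsLocallyNoetherian c.X₁ := LocallyOfFiniteType.isLocallyNoetherian c.f₁
  obtain ⟨u, hu⟩ : O.ι x ∈ Set.range j := by rw [hU.range_fromSpec]; exact hxU
  let t := c.ρ u
  obtain ⟨V₀, htV₀, hV₀⟩ := FibAmple.exists_nhd_ample c.f₁ c.inv t (c.amp u)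
  obtain ⟨W₀, hW₀, htW₀, hW₀V⟩ := exists_isAffineOpen_mem_and_subset (x := t) (U := V₀) htV₀
  -- the bad set of the model is closed near `t`
  let π₀ := QCoh.overSpec c.f₁ hW₀
  have sq₀ := QCoh.isPullback_overSpec (f := c.f₁) hW₀
  haveI : IsProper π₀ := MorphismProperty.of_isPullback (P := @IsProper) sq₀ inferInstance
  haveI : IsNoetherianRing Γ(c.S₁, W₀) := IsLocallyNoetherian.component_noetherian ⟨W₀, hW₀⟩
  let R₀ := Scheme.Modules.restrictFunctorIsoPullback (c.f₁ ⁻¹ᵁ W₀).ι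
  have hclosed := HilbSnap.isClosed_setOf_eventually_ge_affine π₀
    (ModStLib.isFP_pullback (c.f₁ ⁻¹ᵁ W₀).ι (QCoh.isCoh_iff_isFP.1 c.coh)) (PicClLib.isInvertible_pullback _ c.inv)
    (AmpleX.isAmple_of_iso (R₀.app c.L₁) (hV₀ W₀ hW₀V hW₀)) (Φ + 1)
  let D : c.S₁.Opens := hW₀.fromSpec ''ᵁ ⟨_, hclosed.isOpen_compl⟩
  obtain ⟨t₀, ht₀⟩ : t ∈ Set.range hW₀.fromSpec := by rw [hW₀.range_fromSpec]; exact htW₀
  have hD : ∀ w ∈ D, w ∉ badSet c.f₁ c.F₁ c.L₁ Φ := by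
    rintro _ ⟨z, hz, rfl⟩ ⟨N, hN⟩
    exact hz ⟨N, fun n hn => by rw [HilbSnap.eulerChar_twist_bc sq₀ c.coh.1 c.inv]; exact hN n hn⟩
  have htD : t ∈ D := ⟨t₀, fun ⟨N, hN⟩ => hO (O.ι x) x.2 ⟨N, fun n hn => by
    rw [← hu, c.chi n u]
    show _ ≤ ((PerfAux.eulerChar c.f₁ _ t : ℤ) : ℚ)
    rw [← ht₀, ← HilbSnap.eulerChar_twist_bc sq₀ c.coh.1 c.inv]
    exact hN n hn⟩, ht₀⟩
  obtain ⟨W, hW, htW, hWD⟩ := exists_isAffineOpen_mem_and_subset (x := t) (U := D ⊓ V₀) ⟨htD, htV₀⟩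
  -- the stratum over `W`
  let π := QCoh.overSpec c.f₁ hW
  have sqW := QCoh.isPullback_overSpec (f := c.f₁) hW
  haveI : IsProper π := MorphismProperty.of_isPullback (P := @IsProper) sqW inferInstance
  haveI : IsNoetherianRing Γ(c.S₁, W) := IsLocallyNoetherian.component_noetherian ⟨W, hW⟩
  let R := Scheme.Modules.restrictFunctorIsoPullback (c.f₁ ⁻¹ᵁ W).ι
  obtain ⟨J₁, hJ₁⟩ := exists_ideal_core π
    (AmpleX.isAmple_of_iso (R.app c.L₁) (hV₀ W (fun z hz => (hWD hz).2) hW))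
    (ZClosLib.isCoh_pullback (c.f₁ ⁻¹ᵁ W).ι c.coh) Φ fun w ⟨N, hN⟩ => by
      have hw : hW.fromSpec w ∈ D := (hWD (by
        show hW.fromSpec w ∈ (W : Set c.S₁)
        rw [← hW.range_fromSpec]; exact ⟨w, rfl⟩)).1
      refine hD _ hw ⟨N, fun n hn => ?_⟩
      rw [Polynomial.eval_add, Polynomial.eval_one]
      have := hN n hn
      rwa [HilbSnap.eulerChar_twist_bc sqW c.coh.1 c.inv] at this
  -- a neighbourhood mapping into `W`
  let V₁ : O.toScheme.Opens := O.ι ⁻¹ᵁ (j ''ᵁ (c.ρ ⁻¹ᵁ W))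
  obtain ⟨V, hV, hxV, hVV₁⟩ := exists_isAffineOpen_mem_and_subset (x := x) (U := V₁) ⟨u, htW, hu⟩
  have hr : Set.range (hV.fromSpec ≫ O.ι) ⊆ Set.range j := by
    rintro _ ⟨v, rfl⟩
    obtain ⟨u', -, hu'⟩ := hVV₁ (show hV.fromSpec v ∈ (V : Set O.toScheme) from hV.range_fromSpec ▸ ⟨v, rfl⟩)
    exact ⟨u', hu'⟩
  let k := IsOpenImmersion.lift j (hV.fromSpec ≫ O.ι) hr
  have hk : k ≫ j = hV.fromSpec ≫ O.ι := IsOpenImmersion.lift_fac j _ hr
  have hr' : Set.range (k ≫ c.ρ) ⊆ Set.range hW.fromSpec := by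
    rintro _ ⟨v, rfl⟩
    obtain ⟨u', hu'W, hu'⟩ := hVV₁ (show hV.fromSpec v ∈ (V : Set O.toScheme) from hV.range_fromSpec ▸ ⟨v, rfl⟩)
    have he : u' = k v := j.isOpenEmbedding.injective (hu'.trans (by
      rw [← Scheme.Hom.comp_apply, ← hk, Scheme.Hom.comp_apply]))
    rw [hW.range_fromSpec, Scheme.Hom.comp_apply, ← he]
    exact hu'W
  let l := IsOpenImmersion.lift hW.fromSpec (k ≫ c.ρ) hr'
  have hl : l ≫ hW.fromSpec = k ≫ c.ρ := IsOpenImmersion.lift_fac _ _ hr'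
  let ψ : Γ(c.S₁, W) →+* Γ(O.toScheme, V) := (Spec.preimage l).hom
  refine ⟨⟨V, hV⟩, hxV, J₁.map ψ, Ideal.FG.map (IsNoetherian.noetherian J₁) ψ, fun B _ φ => ?_⟩
  let g := Spec.map (CommRingCat.ofHom φ)
  have e1 : (g ≫ hV.fromSpec) ≫ O.ι = (g ≫ k) ≫ j := by rw [Category.assoc, Category.assoc, hk]
  have e2 : (g ≫ k) ≫ c.ρ = Spec.map (CommRingCat.ofHom (φ.comp ψ)) ≫ hW.fromSpec := by
    rw [CommRingCat.ofHom_comp, Spec.map_comp, Category.assoc, Category.assoc, CommRingCat.ofHom_hom,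
      Spec.map_preimage, hl]
  show Good f F L Φ ((g ≫ hV.fromSpec) ≫ O.ι) ↔ _
  rw [e1, c.good Φ (g ≫ k), e2, ← good_bc_iff sqW c.coh.1 c.inv, hJ₁, Ideal.map_le_iff_le_comap,
    RingHom.comap_ker]

/-- The stratum meets affine opens in quasi-compact sets. -/
theorem isCompact_preimage_stratum (f : X ⟶ S) [IsProper f] [LocallyOfFinitePresentation f] {L : X.Modules}
    (hL : RelAmple.IsRelAmple f L) {F : X.Modules} (hF : CohB1.IsFP F) (Φ : Polynomial ℚ) {U : Scheme.{u}}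
    [IsAffine U] (j : U ⟶ S) : IsCompact (j ⁻¹' stratum f F L Φ) := by
  obtain ⟨c⟩ := exists_chart f hL hF j
  haveI := c.noeth; haveI := c.affine; haveI := c.proper
  haveI : IsAffineHom c.ρ := isAffineHom_of_isAffine _
  have hset : j ⁻¹' stratum f F L Φ = c.ρ ⁻¹' {t : c.S₁ | (fun n => PerfAux.eulerChar c.f₁
      (CohB1.tensorMod c.F₁ (CohB1.tensorPow c.L₁ n)) t) ∈
        {φ : ℕ → ℤ | ∀ n : ℕ, (φ n : ℚ) = Φ.eval (n : ℚ)}} := Set.ext fun u => by
    show (∀ n : ℕ, _) ↔ ∀ n : ℕ, _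
    simp only [c.chi]
  rw [hset]
  exact IsoNatLib.isCompact_of_isConstructible (MorLib.LimCons.isConstructible_preimage c.ρ
    (HilbSnap.isConstructible_eulerChar_mem c.f₁ c.coh c.inv _))

end Groth.Agent.HilbStrat

end
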